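import Cfsg.Agent.H46.PushUp.Main
import Cfsg.Agent.H31.JSub
import Cfsg.Agent.H31.PushUp.Setup
import Cfsg.Prelude.Def_ConjugacyFunctors

/-!
The characteristic subgroup `K(P)`: the subgroup generated by the Frattini subgroups of the relevant
minimal centrally large subgroups of `B(P)`, or `B(P)` itself when that subgroup is trivial.
-/

set_option autoImplicit false
set_option linter.unusedSectionVars false
set_option linter.style.haveILetI false

namespace Cfsg.Agent.H42.TwoNorm

open Subgroup Cfsg.Agent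
open Cfsg.Agent.H31.PushUp (omegaZ omegaZ_le omegaZ_comm map_omegaZ)

universe u

section Iso

variable {P R : Type*} [Group P] [Group R] [Finite P] [Finite R] {p : ℕ} [Fact p.Prime]

theorem card_center_map_equiv (e : P ≃* R) (X : Subgroup P) :
    Nat.card (Subgroup.center ↥(X.map e.toMonoidHom)) = Nat.card (Subgroup.center ↥X) :=
  H46.PushUp.center_card_map _ e.injective X

theorem maxCentralProduct_equiv (e : P ≃* R) : Cfsg.maxCentralProduct R = Cfsg.maxCentralProduct P := by
  unfold Cfsg.maxCentralProduct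
  congr 1
  ext k
  constructor
  · rintro ⟨Y, rfl⟩
    refine ⟨Y.comap e.toMonoidHom, ?_⟩
    rw [← card_map_of_injective (K := Y.comap e.toMonoidHom) (f := e.toMonoidHom) e.injective,
      ← card_center_map_equiv e (Y.comap e.toMonoidHom),
      map_comap_eq_self_of_surjective e.surjective]
  · rintro ⟨X, rfl⟩
    exact ⟨X.map e.toMonoidHom, by
      rw [card_map_of_injective (f := e.toMonoidHom) e.injective, card_center_map_equiv]⟩

theorem cl_equiv (e : P ≃* R) (X : Subgroup P) :
    Cfsg.IsCentrallyLarge (X.map e.toMonoidHom) ↔ Cfsg.IsCentrallyLarge X := by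
  unfold Cfsg.IsCentrallyLarge
  rw [card_map_of_injective (f := e.toMonoidHom) e.injective, card_center_map_equiv, maxCentralProduct_equiv e]

theorem mcl_equiv (e : P ≃* R) (X : Subgroup P) :
    Cfsg.IsMinimalCentrallyLarge (X.map e.toMonoidHom) ↔ Cfsg.IsMinimalCentrallyLarge X := by
  unfold Cfsg.IsMinimalCentrallyLarge
  rw [cl_equiv]
  refine and_congr_right fun _ => ⟨fun h Y hY hYc => ?_, fun h Y hY hYc => ?_⟩
  · exact map_injective (f := e.toMonoidHom) e.injective (h _ (map_mono hY) ((cl_equiv e Y).mpr hYc))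
  · have hY' : (Y.comap e.toMonoidHom).map e.toMonoidHom = Y :=
      map_comap_eq_self_of_surjective e.surjective Y
    rw [← hY'] at hYc ⊢
    rw [h _ ?_ ((cl_equiv e _).mp hYc)]
    rw [← map_le_map_iff_of_injective (f := e.toMonoidHom) e.injective, hY']
    exact hY

theorem maxOmega_equiv (e : P ≃* R) :
    Cfsg.maxOmegaCenterOfMinimalCL p R = Cfsg.maxOmegaCenterOfMinimalCL p P := by
  unfold Cfsg.maxOmegaCenterOfMinimalCL
  congr 1
  ext k
  constructor
  · rintro ⟨Y, hY, rfl⟩
    have hY' : (Y.comap e.toMonoidHom).map e.toMonoidHom = Y :=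
      map_comap_eq_self_of_surjective e.surjective Y
    refine ⟨Y.comap e.toMonoidHom, (mcl_equiv e _).mp (by rwa [hY']), ?_⟩
    conv_rhs => rw [← hY', H46.PushUp.omega_map _ e.injective,
      card_map_of_injective (f := e.toMonoidHom) e.injective]
  · rintro ⟨X, hX, rfl⟩
    exact ⟨X.map e.toMonoidHom, (mcl_equiv e X).mpr hX, by
      rw [H46.PushUp.omega_map _ e.injective, card_map_of_injective (f := e.toMonoidHom) e.injective]⟩

theorem frattiniJoin_equiv (hP : IsPGroup p P) (e : P ≃* R) :
    (Cfsg.frattiniOfMinimalCLJoin p P).map e.toMonoidHom = Cfsg.frattiniOfMinimalCLJoin p R := by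
  have hR : IsPGroup p R := hP.of_equiv e
  rw [Cfsg.frattiniOfMinimalCLJoin, Cfsg.frattiniOfMinimalCLJoin, Subgroup.map_iSup]
  refine le_antisymm (iSup_le fun ⟨X, hX, hmax⟩ => ?_) (iSup_le fun ⟨Y, hY, hmax⟩ => ?_)
  · refine le_iSup_of_le ⟨X.map e.toMonoidHom, (mcl_equiv e X).mpr hX, by
      rw [H46.PushUp.omega_map _ e.injective, card_map_of_injective (f := e.toMonoidHom) e.injective, hmax,
        maxOmega_equiv e]⟩ ?_
    rw [H46.PushUp.frattini_map hP, H46.PushUp.frattini_map hR, H46.PushUp.phi_map]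
  · have hY' : (Y.comap e.toMonoidHom).map e.toMonoidHom = Y :=
      map_comap_eq_self_of_surjective e.surjective Y
    refine le_iSup_of_le ⟨Y.comap e.toMonoidHom, (mcl_equiv e _).mp (by rwa [hY']), ?_⟩ ?_
    · rw [← card_map_of_injective (K := Cfsg.omegaOneCenter p (Y.comap e.toMonoidHom))
        (f := e.toMonoidHom) e.injective, ← H46.PushUp.omega_map _ e.injective, hY', hmax,
        maxOmega_equiv e]
    · rw [H46.PushUp.frattini_map hP, H46.PushUp.frattini_map hR, H46.PushUp.phi_map, hY']

end Iso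

/-- The Baumann subgroup of a group. -/
def Bfun (p : ℕ) (Q : Type*) [Group Q] : Subgroup Q :=
  centralizer ((omegaZ p (Cfsg.thompsonSubgroup p Q) : Subgroup Q) : Set Q)

open Classical in
/-- The functor. -/
noncomputable def Kfun (p : ℕ) (Q : Type u) [Group Q] : Subgroup Q :=
  if Cfsg.frattiniOfMinimalCLJoin p ↥(Bfun p Q) = ⊥ then Bfun p Q
  else (Cfsg.frattiniOfMinimalCLJoin p ↥(Bfun p Q)).map (Bfun p Q).subtype

theorem Bfun_equiv {p : ℕ} [Fact p.Prime] {Q R : Type*} [Group Q] [Group R] (φ : Q ≃* R) :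
    (Bfun p Q).map φ.toMonoidHom = Bfun p R := by
  have hJ : (Cfsg.thompsonSubgroup p Q).map φ.toMonoidHom = Cfsg.thompsonSubgroup p R := by
    rw [H31.thompsonSubgroup_map (f := φ.toMonoidHom) φ.injective,
      MonoidHom.range_eq_top.mpr φ.surjective, H31.thompsonSubgroupOf_top]
  have hO : (omegaZ p (Cfsg.thompsonSubgroup p Q)).map φ.toMonoidHom = omegaZ p (Cfsg.thompsonSubgroup p R) := by
    rw [map_omegaZ φ.injective, hJ]
  ext x
  simp only [Bfun, mem_map_equiv, mem_centralizer_iff, SetLike.mem_coe]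
  constructor
  · intro h w hw
    rw [← hO, mem_map_equiv] at hw
    have := congrArg φ (h _ hw)
    simpa using this
  · intro h w hw
    have hw' : φ w ∈ omegaZ p (Cfsg.thompsonSubgroup p R) := hO.le ⟨w, hw, rfl⟩
    refine φ.injective ?_
    simpa using h _ hw'

theorem center_le_Bfun (p : ℕ) (Q : Type*) [Group Q] : center Q ≤ Bfun p Q := fun x hx =>
  mem_centralizer_iff.mpr fun w _ => mem_center_iff.mp hx w

theorem Kfun_isFunctor (p : ℕ) [Fact p.Prime] : Cfsg.IsCharPFunctor.{u} p (Kfun.{u} p) := by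
  refine ⟨fun Q _ _ hQ hne => ?_, fun Q R _ _ _ hQ φ => ?_⟩
  · have hB : Bfun p Q ≠ ⊥ := fun e => by
      haveI := hQ.center_nontrivial
      exact (nontrivial_iff_ne_bot (center Q)).mp inferInstance (le_bot_iff.mp (e ▸ center_le_Bfun p Q))
    unfold Kfun
    split_ifs with h
    · exact hB
    · exact fun e => h ((map_eq_bot_iff_of_injective _ (Bfun p Q).subtype_injective).mp e)
  · haveI : Finite R := Finite.of_equiv Q φ.toEquiv
    let e : ↥(Bfun p Q) ≃* ↥(Bfun p R) :=
      (φ.subgroupMap (Bfun p Q)).trans (MulEquiv.subgroupCongr (Bfun_equiv φ))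
    have he : (Bfun p R).subtype.comp e.toMonoidHom = φ.toMonoidHom.comp (Bfun p Q).subtype := rfl
    have hj := frattiniJoin_equiv (hQ.to_subgroup (Bfun p Q)) e
    unfold Kfun
    by_cases h : Cfsg.frattiniOfMinimalCLJoin p ↥(Bfun p Q) = ⊥
    · rw [if_pos h, if_pos (by rw [← hj, h, Subgroup.map_bot])]
      exact Bfun_equiv φ
    · rw [if_neg h, if_neg (fun h' => h ((map_eq_bot_iff_of_injective _ e.injective).mp (hj.trans h'))),
        ← hj, Subgroup.map_map, Subgroup.map_map, he]

/-- The centre functor. -/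
def Zfun (Q : Type u) [Group Q] : Subgroup Q := center Q

theorem Zfun_isFunctor (p : ℕ) [Fact p.Prime] : Cfsg.IsCharPFunctor.{u} p (Zfun.{u}) := by
  refine ⟨fun Q _ _ hQ hne => ?_, fun Q R _ _ _ _ φ => ?_⟩
  · haveI := hQ.center_nontrivial
    exact (nontrivial_iff_ne_bot (center Q)).mp inferInstance
  · ext x
    simp only [Zfun, mem_map_equiv, mem_center_iff]
    constructor
    · intro h w
      simpa using congrArg φ (h (φ.symm w))
    · intro h w
      refine φ.injective ?_
      simpa using h (φ w)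

end Cfsg.Agent.H42.TwoNorm
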