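import Mathlib

/-!
Sections of a `p`-subgroup on whose irreducible pieces an abelian subgroup acts quadratically, and
the propagation of this property from the centralizer of a fixed element.
-/

set_option autoImplicit false
set_option linter.unusedSectionVars false
set_option linter.style.haveILetI false

namespace Cfsg.Agent.H42.TwoNorm

open Subgroup
open scoped commutatorElement

variable {G : Type*} [Group G]

theorem comm_mul_left (x y a : G) : ⁅x * y, a⁆ = x * ⁅y, a⁆ * x⁻¹ * ⁅x, a⁆ := by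
  simp only [commutatorElement_def]; group

theorem comm_inv_left (x a : G) : ⁅x⁻¹, a⁆ = x⁻¹ * ⁅x, a⁆⁻¹ * x := by
  simp only [commutatorElement_def]; group

theorem comm_conj (g x y : G) : g * ⁅x, y⁆ * g⁻¹ = ⁅g * x * g⁻¹, g * y * g⁻¹⁆ := by
  simp only [commutatorElement_def]; group

theorem conj_mem {N : Subgroup G} {g x : G} (hg : g ∈ normalizer (N : Set G)) (hx : x ∈ N) :
    g * x * g⁻¹ ∈ N := (mem_normalizer_iff.mp hg x).mp hx

theorem conj_mem' {N : Subgroup G} {g x : G} (hg : g ∈ normalizer (N : Set G)) (hx : x ∈ N) :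
    g⁻¹ * x * g ∈ N := by
  simpa using conj_mem (inv_mem hg) hx

theorem comm_mem {K : Subgroup G} {x a : G} (ha : a ∈ normalizer (K : Set G)) (hx : x ∈ K) :
    ⁅x, a⁆ ∈ K := by
  have h := mul_mem hx (conj_mem ha (inv_mem hx))
  simpa [commutatorElement_def, mul_assoc] using h

theorem comm_mem' {K : Subgroup G} {x a : G} (hx : x ∈ normalizer (K : Set G)) (ha : a ∈ K) :
    ⁅x, a⁆ ∈ K :=
  mul_mem (conj_mem hx ha) (inv_mem ha)

theorem le_normalizer_sup {X Y Z : Subgroup G} (hY : X ≤ normalizer (Y : Set G))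
    (hZ : X ≤ normalizer (Z : Set G)) : X ≤ normalizer ((Y ⊔ Z : Subgroup G) : Set G) :=
  (le_inf hY hZ).trans (normalizer_inf_normalizer_le_normalizer_sup Y Z)

theorem le_normalizer_inf {X Y Z : Subgroup G} (hY : X ≤ normalizer (Y : Set G))
    (hZ : X ≤ normalizer (Z : Set G)) : X ≤ normalizer ((Y ⊓ Z : Subgroup G) : Set G) :=
  (le_inf hY hZ).trans (inf_normalizer_le_normalizer_inf ..)

theorem mem_sup_iff' {Y Z : Subgroup G} (h : Y ≤ normalizer (Z : Set G)) {x : G} :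
    x ∈ Y ⊔ Z ↔ ∃ y ∈ Y, ∃ z ∈ Z, y * z = x := by
  rw [← SetLike.mem_coe, coe_mul_of_left_le_normalizer_right Y Z h, Set.mem_mul]
  rfl

/-- An irreducible `Λ`-invariant section `K / N` centralised by `Kk`. -/
structure Sec (Lam Kk : Subgroup G) (N K : Subgroup G) : Prop where
  le : N ≤ K
  normal : K ≤ normalizer (N : Set G)
  invN : Lam ≤ normalizer (N : Set G)
  invK : Lam ≤ normalizer (K : Set G)
  min : ∀ N' : Subgroup G, N ≤ N' → N' ≤ K → Lam ≤ normalizer (N' : Set G) →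
    K ≤ normalizer (N' : Set G) → N' = N ∨ N' = K
  triv : ∀ x ∈ K, ∀ k ∈ Kk, ⁅x, k⁆ ∈ N

/-- On every such section between `R` and `P` the subgroup `A` acts quadratically. -/
def Good (Lam Kk A P R : Subgroup G) : Prop :=
  ∀ N K : Subgroup G, R ≤ N → K ≤ P → Sec Lam Kk N K →
    ∀ x ∈ K, ∀ a ∈ A, ∀ b ∈ A, ⁅⁅x, a⁆, b⁆ ∈ N

variable {Lam Kk A P R B : Subgroup G}

theorem Good.mono {P' R' : Subgroup G} (h : Good Lam Kk A P R) (hP : P' ≤ P) (hR : R ≤ R') :
    Good Lam Kk A P' R' := fun N K hN hK hs => h N K (hR.trans hN) (hK.trans hP) hs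

theorem Good.of_quad (h : ∀ x ∈ P, ∀ a ∈ A, ∀ b ∈ A, ⁅⁅x, a⁆, b⁆ ∈ R) : Good Lam Kk A P R :=
  fun _ _ hN hK _ x hx a ha b hb => hN (h x (hK hx) a ha b hb)

theorem Sec.quad_mul {N K : Subgroup G} (hs : Sec Lam Kk N K) (hA : A ≤ Lam) {y n a b : G}
    (hy : y ∈ K) (hn : n ∈ N) (ha : a ∈ A) (hb : b ∈ A) (h : ⁅⁅y, a⁆, b⁆ ∈ N) :
    ⁅⁅y * n, a⁆, b⁆ ∈ N := by
  have hyN := hs.normal hy
  have h1 : y * ⁅n, a⁆ * y⁻¹ ∈ N := conj_mem hyN (comm_mem (hs.invN (hA ha)) hn)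
  have h2 : ⁅y, a⁆ ∈ K := comm_mem (hs.invK (hA ha)) hy
  rw [comm_mul_left, comm_mul_left]
  exact mul_mem (conj_mem (le_normalizer h1) h) (comm_mem (hs.invN (hA hb)) h1)

/-- Goodness of extensions. -/
theorem Good.ext (hA : A ≤ Lam) (hKk : Kk ≤ Lam) (hBP : B ≤ P) (hBn : P ≤ normalizer (B : Set G))
    (hBi : Lam ≤ normalizer (B : Set G)) (h1 : Good Lam Kk A P B) (h2 : Good Lam Kk A B R)
    (hRB : R ≤ B) : Good Lam Kk A P R := by
  intro N K hRN hKP hs x hx a ha b hb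
  have hKB : K ≤ normalizer (B : Set G) := hKP.trans hBn
  have hKKB : K ⊓ B ≤ normalizer (N : Set G) := inf_le_left.trans hs.normal
  set J := (K ⊓ B) ⊔ N with hJ
  rcases hs.min J le_sup_right (sup_le inf_le_left hs.le)
      (le_normalizer_sup (le_normalizer_inf hs.invK hBi) hs.invN)
      (le_normalizer_sup (le_normalizer_inf le_normalizer hKB) hs.normal) with hJN | hJK
  · -- the section survives above `B`
    have hKBN : K ⊓ B ≤ N := le_sup_left.trans hJN.le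
    have hNB : N ≤ normalizer (B : Set G) := hs.le.trans hKB
    have hsB : Sec Lam Kk (N ⊔ B) (K ⊔ B) := by
      refine ⟨sup_le_sup_right hs.le B, sup_le (le_normalizer_sup hs.normal hKB) ?_,
        le_normalizer_sup hs.invN hBi, le_normalizer_sup hs.invK hBi, fun N' hN1 hN2 hNi hNn => ?_, ?_⟩
      · intro b hb
        refine mem_normalizer_iff.mpr fun y => ?_
        have hbm : b ∈ N ⊔ B := mem_sup_right hb
        exact ⟨fun hy => mul_mem (mul_mem hbm hy) (inv_mem hbm), fun hy => by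
          simpa [mul_assoc] using mul_mem (mul_mem (inv_mem hbm) hy) hbm⟩
      · rcases hs.min (N' ⊓ K) (le_inf (le_sup_left.trans hN1) hs.le) inf_le_right
            (le_normalizer_inf hNi hs.invK)
            (le_normalizer_inf (le_sup_left.trans hNn) le_normalizer) with e | e
        · refine Or.inl (le_antisymm (fun y hy => ?_) hN1)
          obtain ⟨k, hk, c, hc, rfl⟩ := (mem_sup_iff' hKB).mp (hN2 hy)
          have hk' : k ∈ N' := by simpa using mul_mem hy (inv_mem (hN1 (mem_sup_right hc)))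
          exact mul_mem (mem_sup_left (e.le ⟨hk', hk⟩)) (mem_sup_right hc)
        · exact Or.inr (le_antisymm hN2 (sup_le (e.ge.trans inf_le_left) (le_sup_right.trans hN1)))
      · intro y hy k hk
        obtain ⟨y', hy', c, hc, rfl⟩ := (mem_sup_iff' hKB).mp hy
        rw [comm_mul_left]
        exact mul_mem (mem_sup_right (conj_mem (hKB hy') (comm_mem (hBi (hKk hk)) hc)))
          (mem_sup_left (hs.triv y' hy' k hk))
    obtain ⟨n, hn, c, hc, e⟩ := (mem_sup_iff' hNB).mp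
      (h1 _ _ le_sup_right (sup_le hKP hBP) hsB x (mem_sup_left hx) a ha b hb)
    have hmem : ⁅⁅x, a⁆, b⁆ ∈ K := comm_mem (hs.invK (hA hb)) (comm_mem (hs.invK (hA ha)) hx)
    rw [← e] at hmem ⊢
    exact mul_mem hn (hKBN ⟨by simpa using mul_mem (inv_mem (hs.le hn)) hmem, hc⟩)
  · -- the section lives inside `B`
    have hsB : Sec Lam Kk (N ⊓ B) (K ⊓ B) := by
      refine ⟨inf_le_inf_right B hs.le, le_normalizer_inf hKKB (inf_le_left.trans hKB),
        le_normalizer_inf hs.invN hBi, le_normalizer_inf hs.invK hBi, fun N' hN1 hN2 hNi hNn => ?_,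
        fun y hy k hk => ⟨hs.triv y hy.1 k hk, comm_mem (hBi (hKk hk)) hy.2⟩⟩
      have hN'N : N' ≤ normalizer (N : Set G) := hN2.trans hKKB
      -- `N` normalises `N' ⊔ N`, as does `K ⊓ B`
      have hsup : K ≤ normalizer ((N' ⊔ N : Subgroup G) : Set G) := by
        rw [← hJK]
        refine sup_le (le_normalizer_sup hNn hKKB) ?_
        exact le_sup_right.trans le_normalizer
      rcases hs.min (N' ⊔ N) le_sup_right (sup_le (hN2.trans inf_le_left) hs.le)
          (le_normalizer_sup hNi hs.invN) hsup with e | e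
      · refine Or.inl (le_antisymm (le_inf (le_sup_left.trans e.le) (hN2.trans inf_le_right)) hN1)
      · refine Or.inr (le_antisymm hN2 fun y hy => ?_)
        obtain ⟨m, hm, n, hn, rfl⟩ := (mem_sup_iff' hN'N).mp (e.ge hy.1)
        refine mul_mem hm (hN1 ⟨hn, ?_⟩)
        simpa using B.mul_mem (B.inv_mem (hN2 hm).2) hy.2
    obtain ⟨y, hy, n, hn, rfl⟩ := (mem_sup_iff' hKKB).mp (hJK.ge hx)
    exact hs.quad_mul hA hy.1 hn ha hb
      (h2 _ _ (le_inf hRN hRB) inf_le_right hsB y hy a ha b hb).1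

/-- The quotient of the normalizer of `R` by `R`. -/
abbrev NQ (R : Subgroup G) := ↥(normalizer (R : Set G)) ⧸ R.subgroupOf (normalizer (R : Set G))

open Classical in
/-- The class of an element modulo `R`. -/
noncomputable def kap (R : Subgroup G) (x : G) : NQ R :=
  if h : x ∈ normalizer (R : Set G) then QuotientGroup.mk ⟨x, h⟩ else 1

theorem kap_mul {x y : G} (hx : x ∈ normalizer (R : Set G)) (hy : y ∈ normalizer (R : Set G)) :
    kap R (x * y) = kap R x * kap R y := by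
  rw [kap, kap, kap, dif_pos hx, dif_pos hy, dif_pos (mul_mem hx hy)]
  rfl

theorem kap_inv {x : G} (hx : x ∈ normalizer (R : Set G)) : kap R x⁻¹ = (kap R x)⁻¹ := by
  rw [kap, kap, dif_pos hx, dif_pos (inv_mem hx)]
  rfl

theorem kap_eq_one {x : G} (hx : x ∈ normalizer (R : Set G)) : kap R x = 1 ↔ x ∈ R := by
  rw [kap, dif_pos hx, QuotientGroup.eq_one_iff, mem_subgroupOf]

theorem kap_eq {x y : G} (hx : x ∈ normalizer (R : Set G)) (hy : y ∈ normalizer (R : Set G)) :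
    kap R x = kap R y ↔ x⁻¹ * y ∈ R := by
  rw [← kap_eq_one (mul_mem (inv_mem hx) hy), kap_mul (inv_mem hx) hy, kap_inv hx, inv_mul_eq_one]

theorem kap_comm {x y : G} (hx : x ∈ normalizer (R : Set G)) (hy : y ∈ normalizer (R : Set G))
    (h : ⁅x, y⁆ ∈ R) : Commute (kap R x) (kap R y) := by
  show kap R x * kap R y = kap R y * kap R x
  rw [← kap_mul hx hy, ← kap_mul hy hx, kap_eq (mul_mem hx hy) (mul_mem hy hx)]
  have h' := conj_mem' (mul_mem hx hy) (inv_mem h)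
  convert h' using 1
  simp only [commutatorElement_def]
  group

/-- The elements of `P` whose commutator with `s` lies in `R`. -/
def cenMod (P R : Subgroup G) (s : G) : Subgroup G where
  carrier := {x | x ∈ P ∧ x ∈ normalizer (R : Set G) ∧ ⁅x, s⁆ ∈ R}
  one_mem' := ⟨one_mem _, one_mem _, by simp⟩
  mul_mem' := by
    rintro x y ⟨hx, hxn, hxs⟩ ⟨hy, hyn, hys⟩
    refine ⟨mul_mem hx hy, mul_mem hxn hyn, ?_⟩
    rw [comm_mul_left]
    exact mul_mem (conj_mem hxn hys) hxs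
  inv_mem' := by
    rintro x ⟨hx, hxn, hxs⟩
    refine ⟨inv_mem hx, inv_mem hxn, ?_⟩
    rw [comm_inv_left]
    exact conj_mem' hxn (inv_mem hxs)

theorem mem_cenMod {s x : G} :
    x ∈ cenMod P R s ↔ x ∈ P ∧ x ∈ normalizer (R : Set G) ∧ ⁅x, s⁆ ∈ R := Iff.rfl

theorem le_normalizer_cenMod {X : Subgroup G} {s : G} (hP : X ≤ normalizer (P : Set G))
    (hR : X ≤ normalizer (R : Set G)) (hs : ∀ g ∈ X, g * s * g⁻¹ = s) :
    X ≤ normalizer ((cenMod P R s : Subgroup G) : Set G) := by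
  refine le_normalizer_iff.mpr fun g hg x hx => ?_
  obtain ⟨h1, h2, h3⟩ := mem_cenMod.mp hx
  refine mem_cenMod.mpr ⟨conj_mem (hP hg) h1, mul_mem (mul_mem (hR hg) h2) (inv_mem (hR hg)), ?_⟩
  rw [← hs g hg, ← comm_conj]
  exact conj_mem (hR hg) h3

/-- The preimage of the centre of `P / R`. -/
def cenTop (P R : Subgroup G) : Subgroup G where
  carrier := {x | x ∈ P ∧ x ∈ normalizer (R : Set G) ∧ ∀ y ∈ P, ⁅x, y⁆ ∈ R}
  one_mem' := ⟨one_mem _, one_mem _, fun y _ => by simp⟩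
  mul_mem' := by
    rintro x y ⟨hx, hxn, hxs⟩ ⟨hy, hyn, hys⟩
    refine ⟨mul_mem hx hy, mul_mem hxn hyn, fun z hz => ?_⟩
    rw [comm_mul_left]
    exact mul_mem (conj_mem hxn (hys z hz)) (hxs z hz)
  inv_mem' := by
    rintro x ⟨hx, hxn, hxs⟩
    refine ⟨inv_mem hx, inv_mem hxn, fun z hz => ?_⟩
    rw [comm_inv_left]
    exact conj_mem' hxn (inv_mem (hxs z hz))

theorem mem_cenTop {x : G} :
    x ∈ cenTop P R ↔ x ∈ P ∧ x ∈ normalizer (R : Set G) ∧ ∀ y ∈ P, ⁅x, y⁆ ∈ R := Iff.rfl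

theorem cenTop_le : cenTop P R ≤ P := fun _ hx => hx.1

theorem le_cenTop (hRP : R ≤ P) (hPR : P ≤ normalizer (R : Set G)) : R ≤ cenTop P R := fun _ hr =>
  ⟨hRP hr, le_normalizer hr, fun _ hy => comm_mem (hPR hy) hr⟩

theorem le_normalizer_cenTop {X : Subgroup G} (hP : X ≤ normalizer (P : Set G))
    (hR : X ≤ normalizer (R : Set G)) : X ≤ normalizer ((cenTop P R : Subgroup G) : Set G) := by
  refine le_normalizer_iff.mpr fun g hg x hx => ?_
  obtain ⟨h1, h2, h3⟩ := mem_cenTop.mp hx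
  refine mem_cenTop.mpr ⟨conj_mem (hP hg) h1, mul_mem (mul_mem (hR hg) h2) (inv_mem (hR hg)),
    fun y hy => ?_⟩
  have e := conj_mem (hR hg) (h3 _ (conj_mem' (hP hg) hy))
  rw [comm_conj] at e
  simpa [mul_assoc] using e

theorem lt_cenTop [Finite G] {p : ℕ} [Fact p.Prime] (hp : IsPGroup p P) (hRP : R < P)
    (hPR : P ≤ normalizer (R : Set G)) : R < cenTop P R := by
  refine lt_of_le_of_ne (le_cenTop hRP.le hPR) fun e => ?_
  haveI : (R.subgroupOf P).Normal := (normal_subgroupOf_iff_le_normalizer hRP.le).mpr hPR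
  haveI : Nontrivial (↥P ⧸ R.subgroupOf P) :=
    QuotientGroup.nontrivial_iff.mpr fun h => hRP.not_ge (subgroupOf_eq_top.mp h)
  haveI := (hp.to_quotient (R.subgroupOf P)).center_nontrivial
  obtain ⟨⟨z, hz⟩, hz1⟩ := exists_ne (1 : center (↥P ⧸ R.subgroupOf P))
  obtain ⟨x, rfl⟩ := QuotientGroup.mk_surjective z
  refine hz1 (Subtype.ext ((QuotientGroup.eq_one_iff x).mpr (mem_subgroupOf.mpr ?_)))
  rw [e]
  refine ⟨x.2, hPR x.2, fun y hy => ?_⟩
  have h1 := mem_center_iff.mp hz (QuotientGroup.mk ⟨y, hy⟩)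
  rw [← QuotientGroup.mk_mul, ← QuotientGroup.mk_mul, QuotientGroup.eq] at h1
  have h2 := mem_subgroupOf.mp h1
  simp only [Subgroup.coe_mul, Subgroup.coe_inv] at h2
  have h3 := conj_mem (mul_mem (hPR x.2) (hPR hy)) (inv_mem h2)
  convert inv_mem h3 using 1
  simp only [commutatorElement_def]
  group

/-- One step of the propagation: goodness passes through `x ↦ ⁅x, s⁆`. -/
theorem good_step {Z : Subgroup G} {s : G} (hA : A ≤ Lam) (hKk : Kk ≤ Lam)
    (hPR : P ≤ normalizer (R : Set G)) (hLP : Lam ≤ normalizer (P : Set G))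
    (hLR : Lam ≤ normalizer (R : Set G)) (hRZ : R ≤ Z) (hZ : Z ≤ cenTop P R)
    (hLZ : Lam ≤ normalizer (Z : Set G)) (hs : ∀ g ∈ Lam, g * s * g⁻¹ = s)
    (h : Good Lam Kk A Z R) : Good Lam Kk A (cenMod P Z s) (cenMod P R s) := by
  intro N K hCN hKC hsec x hx a ha b hb
  have hZP : Z ≤ P := hZ.trans cenTop_le
  have hN : ∀ y ∈ K, y ∈ normalizer (R : Set G) := fun y hy => hPR (mem_cenMod.mp (hKC hy)).1
  have hcP : ∀ y ∈ K, ⁅y, s⁆ ∈ Z := fun y hy => (mem_cenMod.mp (hKC hy)).2.2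
  have hZn : ∀ u ∈ Z, u ∈ normalizer (R : Set G) := fun u hu => hPR (hZP hu)
  have hcom : ∀ u ∈ Z, ∀ y ∈ P, Commute (kap R y) (kap R u) := fun u hu y hy =>
    (kap_comm (hZn u hu) (hPR hy) ((mem_cenTop.mp (hZ hu)).2.2 y hy)).symm
  let f : G → NQ R := fun y => kap R ⁅y, s⁆
  have fmul : ∀ y ∈ K, ∀ y' ∈ K, f (y * y') = f y * f y' := by
    intro y hy y' hy'
    show kap R _ = kap R _ * kap R _
    rw [comm_mul_left, kap_mul (mul_mem (mul_mem (hN y hy) (hZn _ (hcP y' hy'))) (inv_mem (hN y hy)))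
      (hZn _ (hcP y hy)), kap_mul (mul_mem (hN y hy) (hZn _ (hcP y' hy'))) (inv_mem (hN y hy)),
      kap_mul (hN y hy) (hZn _ (hcP y' hy')), kap_inv (hN y hy),
      (hcom _ (hcP y' hy') y (mem_cenMod.mp (hKC hy)).1).eq, mul_inv_cancel_right,
      (hcom _ (hcP y hy) _ (hZP (hcP y' hy'))).eq]
  have f1 : f 1 = 1 := by
    show kap R ⁅(1 : G), s⁆ = 1
    rw [commutatorElement_one_left, kap_eq_one (one_mem _)]
    exact one_mem _
  have finv : ∀ y ∈ K, f y⁻¹ = (f y)⁻¹ := fun y hy => by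
    refine eq_inv_of_mul_eq_one_left ?_
    rw [← fmul _ (inv_mem hy) _ hy, inv_mul_cancel, f1]
  have fconj : ∀ y : G, ∀ l ∈ Lam, ⁅l * y * l⁻¹, s⁆ = l * ⁅y, s⁆ * l⁻¹ := fun y l hl => by
    conv_lhs => rw [← hs l hl]
    rw [comm_conj]
  -- the image of a subgroup
  let img : ∀ X : Subgroup G, X ≤ K → Subgroup G := fun X hX =>
    { carrier := {u | u ∈ Z ∧ ∃ y ∈ X, kap R u = f y}
      one_mem' := ⟨one_mem _, 1, one_mem _, by rw [f1, kap_eq_one (one_mem _)]; exact one_mem _⟩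
      mul_mem' := by
        rintro u v ⟨hu, y, hy, e⟩ ⟨hv, y', hy', e'⟩
        exact ⟨mul_mem hu hv, y * y', mul_mem hy hy', by
          rw [fmul y (hX hy) y' (hX hy'), kap_mul (hZn u hu) (hZn v hv), e, e']⟩
      inv_mem' := by
        rintro u ⟨hu, y, hy, e⟩
        exact ⟨inv_mem hu, y⁻¹, inv_mem hy, by rw [finv y (hX hy), kap_inv (hZn u hu), e]⟩ }
  have himg : ∀ (X : Subgroup G) (hX : X ≤ K) (u : G),
      u ∈ img X hX ↔ u ∈ Z ∧ ∃ y ∈ X, kap R u = f y := fun _ _ _ => Iff.rfl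
  have hR_le : ∀ (X : Subgroup G) (hX : X ≤ K), R ≤ img X hX := fun X hX r hr =>
    (himg X hX r).mpr ⟨hRZ hr, 1, one_mem _, by rw [f1, kap_eq_one (le_normalizer hr)]; exact hr⟩
  have himg_inv : ∀ (X : Subgroup G) (hX : X ≤ K), Lam ≤ normalizer (X : Set G) →
      Lam ≤ normalizer ((img X hX : Subgroup G) : Set G) := by
    intro X hX hXi
    refine le_normalizer_iff.mpr fun l hl u hu => ?_
    obtain ⟨hu, y, hy, e⟩ := (himg X hX u).mp hu
    refine (himg X hX _).mpr ⟨conj_mem (hLZ hl) hu, _, conj_mem (hXi hl) hy, ?_⟩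
    show kap R (l * u * l⁻¹) = kap R ⁅l * y * l⁻¹, s⁆
    rw [fconj y l hl, kap_eq (mul_mem (mul_mem (hLR hl) (hZn u hu)) (inv_mem (hLR hl)))
      (mul_mem (mul_mem (hLR hl) (hZn _ (hcP y (hX hy)))) (inv_mem (hLR hl)))]
    have h' := conj_mem (hLR hl) ((kap_eq (hZn u hu) (hZn _ (hcP y (hX hy)))).mp e)
    convert h' using 1
    group
  have hab : ∀ (X Y : Subgroup G), R ≤ X → Y ≤ Z → X ≤ Z → Y ≤ normalizer (X : Set G) := by
    intro X Y hRX hYZ hXZ
    refine le_normalizer_iff.mpr fun y hy u hu => ?_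
    have h' := (mem_cenTop.mp (hZ (hXZ hu))).2.2 y (hZP (hYZ hy))
    have h'' := mul_mem (inv_mem (hRX h')) hu
    convert h'' using 1
    simp only [commutatorElement_def]
    group
  have hKZ : img K le_rfl ≤ Z := fun u hu => ((himg K le_rfl u).mp hu).1
  have hNZ : img N hsec.le ≤ Z := fun u hu => ((himg N hsec.le u).mp hu).1
  have hNK : img N hsec.le ≤ img K le_rfl := fun u hu => by
    obtain ⟨h1, y, hy, e⟩ := (himg N hsec.le u).mp hu
    exact (himg K le_rfl u).mpr ⟨h1, y, hsec.le hy, e⟩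
  have hker : ∀ y ∈ K, f y = 1 → y ∈ N := fun y hy e =>
    hCN (mem_cenMod.mpr ⟨(mem_cenMod.mp (hKC hy)).1, hN y hy,
      (kap_eq_one (hZn _ (hcP y hy))).mp e⟩)
  have hsec' : Sec Lam Kk (img N hsec.le) (img K le_rfl) := by
    refine ⟨hNK, hab _ _ (hR_le N hsec.le) hKZ hNZ, himg_inv N hsec.le hsec.invN, himg_inv K le_rfl hsec.invK,
      fun N' hN1 hN2 hNi _ => ?_, ?_⟩
    · have hRN' : R ≤ N' := (hR_le N hsec.le).trans hN1
      let pre : Subgroup G :=
        { carrier := {y | y ∈ K ∧ ∃ u ∈ N', kap R u = f y}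
          one_mem' := ⟨one_mem _, 1, one_mem _, by rw [f1, kap_eq_one (one_mem _)]; exact one_mem _⟩
          mul_mem' := by
            rintro y y' ⟨hy, u, hu, e⟩ ⟨hy', u', hu', e'⟩
            exact ⟨mul_mem hy hy', u * u', mul_mem hu hu', by
              rw [fmul y hy y' hy', kap_mul (hZn u (hKZ (hN2 hu))) (hZn u' (hKZ (hN2 hu'))), e, e']⟩
          inv_mem' := by
            rintro y ⟨hy, u, hu, e⟩
            exact ⟨inv_mem hy, u⁻¹, inv_mem hu, by
              rw [finv y hy, kap_inv (hZn u (hKZ (hN2 hu))), e]⟩ }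
      have hpre : ∀ y, y ∈ pre ↔ y ∈ K ∧ ∃ u ∈ N', kap R u = f y := fun y => Iff.rfl
      have hNpre : N ≤ pre := fun y hy => (hpre y).mpr ⟨hsec.le hy, ⁅y, s⁆,
        hN1 ((himg N hsec.le _).mpr ⟨hcP y (hsec.le hy), y, hy, rfl⟩), rfl⟩
      have hpreK : pre ≤ K := fun y hy => ((hpre y).mp hy).1
      have hpre_inv : Lam ≤ normalizer (pre : Set G) := by
        refine le_normalizer_iff.mpr fun l hl y hy => ?_
        obtain ⟨hy, u, hu, e⟩ := (hpre y).mp hy
        refine (hpre _).mpr ⟨conj_mem (hsec.invK hl) hy, _, conj_mem (hNi hl) hu, ?_⟩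
        show kap R (l * u * l⁻¹) = kap R ⁅l * y * l⁻¹, s⁆
        rw [fconj y l hl, kap_eq (mul_mem (mul_mem (hLR hl) (hZn u (hKZ (hN2 hu)))) (inv_mem (hLR hl)))
          (mul_mem (mul_mem (hLR hl) (hZn _ (hcP y hy))) (inv_mem (hLR hl)))]
        have h' := conj_mem (hLR hl) ((kap_eq (hZn u (hKZ (hN2 hu))) (hZn _ (hcP y hy))).mp e)
        convert h' using 1
        group
      have hpre_n : K ≤ normalizer (pre : Set G) := by
        refine le_normalizer_iff.mpr fun k hk y hy => ?_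
        obtain ⟨hy, u, hu, e⟩ := (hpre y).mp hy
        refine (hpre _).mpr ⟨mul_mem (mul_mem hk hy) (inv_mem hk), u, hu, ?_⟩
        rw [e, fmul _ (mul_mem hk hy) _ (inv_mem hk), fmul k hk y hy, finv k hk,
          (show Commute (f k) (f y) from hcom _ (hcP y hy) _ (hZP (hcP k hk))).eq, mul_inv_cancel_right]
      rcases hsec.min pre hNpre hpreK hpre_inv hpre_n with e | e
      · refine Or.inl (le_antisymm (fun u hu => ?_) hN1)
        obtain ⟨huZ, y, hy, e'⟩ := (himg K le_rfl u).mp (hN2 hu)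
        exact (himg N hsec.le u).mpr ⟨huZ, y, e.le ((hpre y).mpr ⟨hy, u, hu, e'⟩), e'⟩
      · refine Or.inr (le_antisymm hN2 fun u hu => ?_)
        obtain ⟨huZ, y, hy, e'⟩ := (himg K le_rfl u).mp hu
        obtain ⟨-, v, hv, e''⟩ := (hpre y).mp (e.ge hy)
        have h' := hRN' ((kap_eq (hZn v (hKZ (hN2 hv))) (hZn u huZ)).mp (e''.trans e'.symm))
        simpa using mul_mem hv h'
    · intro u hu k hk
      obtain ⟨huZ, y, hy, e⟩ := (himg K le_rfl u).mp hu
      have hl := hLR (hKk hk)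
      have hyk : ⁅y, k⁆ ∈ N := hsec.triv y hy k hk
      refine (himg N hsec.le _).mpr ⟨comm_mem (hLZ (hKk hk)) huZ, ⁅y, k⁆, hyk, ?_⟩
      have hy' : k * y⁻¹ * k⁻¹ ∈ K := conj_mem (hsec.invK (hKk hk)) (inv_mem hy)
      have e1 : ⁅y, k⁆ = y * (k * y⁻¹ * k⁻¹) := by simp only [commutatorElement_def]; group
      have e2 : ⁅u, k⁆ = u * (k * u⁻¹ * k⁻¹) := by simp only [commutatorElement_def]; group
      have hu' : k * u⁻¹ * k⁻¹ ∈ Z := conj_mem (hLZ (hKk hk)) (inv_mem huZ)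
      rw [e1, e2, fmul y hy _ hy', kap_mul (hZn u huZ) (hZn _ hu'), e]
      congr 1
      show _ = kap R _
      rw [fconj _ k (hKk hk)]
      have hyZ := hcP y⁻¹ (inv_mem hy)
      have e3 : kap R u⁻¹ = kap R ⁅y⁻¹, s⁆ := by
        rw [kap_inv (hZn u huZ), e]
        exact (finv y hy).symm
      rw [kap_eq (mul_mem (mul_mem hl (inv_mem (hZn u huZ))) (inv_mem hl))
        (mul_mem (mul_mem hl (hZn _ hyZ)) (inv_mem hl))]
      have h' := conj_mem hl ((kap_eq (inv_mem (hZn u huZ)) (hZn _ hyZ)).mp e3)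
      convert h' using 1
      group
  have hxa : ⁅x, a⁆ ∈ K := comm_mem (hsec.invK (hA ha)) hx
  have hxab : ⁅⁅x, a⁆, b⁆ ∈ K := comm_mem (hsec.invK (hA hb)) hxa
  have step : ∀ y ∈ K, ∀ c ∈ A, f ⁅y, c⁆ = kap R ⁅⁅y, s⁆, c⁆ := by
    intro y hy c hc
    have hcl := hLR (hA hc)
    have hy' : c * y⁻¹ * c⁻¹ ∈ K := conj_mem (hsec.invK (hA hc)) (inv_mem hy)
    have e1 : ⁅y, c⁆ = y * (c * y⁻¹ * c⁻¹) := by simp only [commutatorElement_def]; group
    have e2 : ⁅⁅y, s⁆, c⁆ = ⁅y, s⁆ * (c * ⁅y, s⁆⁻¹ * c⁻¹) := by simp only [commutatorElement_def]; group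
    have hm := hZn _ (hcP y hy)
    rw [e1, fmul y hy _ hy', e2, kap_mul hm (mul_mem (mul_mem hcl (inv_mem hm)) (inv_mem hcl))]
    congr 1
    show kap R _ = _
    rw [fconj _ c (hA hc)]
    have hm' := hZn _ (hcP _ (inv_mem hy))
    have e3 : kap R ⁅y⁻¹, s⁆ = kap R ⁅y, s⁆⁻¹ := by
      rw [kap_inv hm]
      exact finv y hy
    rw [kap_eq (mul_mem (mul_mem hcl hm') (inv_mem hcl)) (mul_mem (mul_mem hcl (inv_mem hm)) (inv_mem hcl))]
    have h' := conj_mem hcl ((kap_eq hm' (inv_mem hm)).mp e3)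
    convert h' using 1
    group
  have hu1 : ⁅⁅x, s⁆, a⁆ ∈ Z := comm_mem (hLZ (hA ha)) (hcP x hx)
  have hq := h _ _ (hR_le N hsec.le) hKZ hsec' ⁅x, s⁆ ((himg K le_rfl _).mpr ⟨hcP x hx, x, hx, rfl⟩) a ha b hb
  obtain ⟨-, n, hn, e⟩ := (himg N hsec.le _).mp hq
  have e' : f ⁅⁅x, a⁆, b⁆ = kap R ⁅⁅⁅x, s⁆, a⁆, b⁆ := by
    rw [step _ hxa b hb]
    have h1 : kap R ⁅⁅x, a⁆, s⁆ = kap R ⁅⁅x, s⁆, a⁆ := step x hx a ha
    have h2 := hZn _ (hcP _ hxa)
    have h3 := hZn _ hu1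
    have hbl := hLR (hA hb)
    rw [kap_eq (hZn _ (comm_mem (hLZ (hA hb)) (hcP _ hxa))) (hZn _ (comm_mem (hLZ (hA hb)) hu1))]
    have h4 := (kap_eq h2 h3).mp h1
    have h6 := conj_mem' (hZn _ (comm_mem (hLZ (hA hb)) (hcP _ hxa)))
      (conj_mem h2 (comm_mem hbl h4))
    generalize ⁅⁅x, a⁆, s⁆ = w at h6 ⊢
    generalize ⁅⁅x, s⁆, a⁆ = w' at h6 ⊢
    convert h6 using 1
    simp only [commutatorElement_def]
    group
  rw [← e', ← inv_mul_eq_one] at e
  have hdiv : f (⁅⁅x, a⁆, b⁆⁻¹ * n) = 1 := by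
    rw [fmul _ (inv_mem hxab) _ (hsec.le hn), finv _ hxab]
    exact e
  have h7 := hker _ (mul_mem (inv_mem hxab) (hsec.le hn)) hdiv
  have h8 := mul_mem hn (inv_mem h7)
  simpa [mul_assoc] using h8

/-- **Propagation**: if the centralizer of a `Λ`-fixed element is good, so is the whole group. -/
theorem good_of_centralizer [Finite G] {p : ℕ} [Fact p.Prime] (hA : A ≤ Lam) (hKk : Kk ≤ Lam)
    {s : G} (hp : IsPGroup p P) (hs : s ∈ P) (hsL : ∀ g ∈ Lam, g * s * g⁻¹ = s)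
    (hLP : Lam ≤ normalizer (P : Set G)) :
    ∀ R : Subgroup G, R ≤ P → P ≤ normalizer (R : Set G) → Lam ≤ normalizer (R : Set G) →
      Good Lam Kk A (cenMod P R s) R → Good Lam Kk A P R := by
  intro R
  induction hn : Nat.card P - Nat.card R using Nat.strong_induction_on generalizing R with
  | _ n ih =>
    intro hRP hPR hLR h
    rcases hRP.lt_or_eq with hlt | rfl
    swap
    · exact fun N K hN hK hsec x hx a ha b hb =>
        comm_mem (hsec.invN (hA hb)) (comm_mem (hsec.invN (hA ha)) (hN (hK hx)))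
    set Z := cenTop P R with hZdef
    have hRZ : R < Z := lt_cenTop hp hlt hPR
    have hZP : Z ≤ P := cenTop_le
    have hPZ : P ≤ normalizer (Z : Set G) := le_normalizer_cenTop le_normalizer hPR
    have hLZ : Lam ≤ normalizer (Z : Set G) := le_normalizer_cenTop hLP hLR
    have hZC : Z ≤ cenMod P R s := fun z hz => mem_cenMod.mpr ⟨hz.1, hz.2.1, hz.2.2 s hs⟩
    have hgZ : Good Lam Kk A Z R := h.mono hZC le_rfl
    have hstep := good_step hA hKk hPR hLP hLR hRZ.le le_rfl hLZ hsL hgZ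
    have hC1 : Good Lam Kk A (cenMod P Z s) R := by
      refine Good.ext hA hKk ?_ ?_ (le_normalizer_cenMod hLP hLR hsL) hstep h ?_
      · intro x hx
        exact mem_cenMod.mpr ⟨hx.1, hPZ hx.1, hRZ.le hx.2.2⟩
      · refine le_normalizer_iff.mpr fun g hg x hx => ?_
        obtain ⟨hgP, -, hgs⟩ := mem_cenMod.mp hg
        obtain ⟨hxP, -, hxs⟩ := mem_cenMod.mp hx
        have hgn := hPR hgP
        refine mem_cenMod.mpr ⟨mul_mem (mul_mem hgP hxP) (inv_mem hgP),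
          mul_mem (mul_mem hgn (hPR hxP)) (inv_mem hgn), ?_⟩
        rw [commutatorElement_def, ← kap_eq_one (hPR (mul_mem (mul_mem (mul_mem (mul_mem (mul_mem hgP hxP)
          (inv_mem hgP)) hs) (inv_mem (mul_mem (mul_mem hgP hxP) (inv_mem hgP)))) (inv_mem hs)))]
        have hsn := hPR hs
        have hxn := hPR hxP
        have hcz : Commute (kap R ⁅g, s⁆) (kap R x) :=
          kap_comm (hPR hgs.1) hxn (hgs.2.2 x hxP)
        have hsx : Commute (kap R x) (kap R s) := kap_comm hxn hsn hxs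
        have hsn' : Commute (kap R ⁅g, s⁆) (kap R g) :=
          kap_comm (hPR hgs.1) hgn (hgs.2.2 g hgP)
        have eg : kap R ⁅g, s⁆ = kap R g * kap R s * (kap R g)⁻¹ * (kap R s)⁻¹ := by
          rw [commutatorElement_def, kap_mul (mul_mem (mul_mem hgn hsn) (inv_mem hgn)) (inv_mem hsn),
            kap_mul (mul_mem hgn hsn) (inv_mem hgn), kap_mul hgn hsn, kap_inv hgn, kap_inv hsn]
        have hgx := mul_mem (mul_mem hgn hxn) (inv_mem hgn)
        rw [kap_mul (mul_mem (mul_mem hgx hsn) (inv_mem hgx)) (inv_mem hsn),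
          kap_mul (mul_mem hgx hsn) (inv_mem hgx), kap_mul hgx hsn, kap_inv hgx, kap_inv hsn,
          kap_mul (mul_mem hgn hxn) (inv_mem hgn), kap_mul hgn hxn, kap_inv hgn]
        generalize kap R ⁅g, s⁆ = c at eg hcz hsn'
        generalize kap R g = γ at eg hsn' ⊢
        generalize kap R x = ξ at hcz hsx ⊢
        generalize kap R s = σ at eg hsx ⊢
        have e1 : γ⁻¹ * σ * γ = c⁻¹ * σ := by
          have : γ⁻¹ * c⁻¹ * γ = c⁻¹ := by
            rw [mul_assoc, hsn'.inv_left.eq, inv_mul_cancel_left]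
          calc γ⁻¹ * σ * γ = γ⁻¹ * c⁻¹ * γ * σ := by rw [eg]; group
            _ = c⁻¹ * σ := by rw [this]
        have e2 : ξ * (c⁻¹ * σ) * ξ⁻¹ = c⁻¹ * σ := by
          rw [← mul_assoc, ← hcz.inv_left.eq, mul_assoc c⁻¹, hsx.eq, mul_assoc, mul_inv_cancel_right]
        calc γ * ξ * γ⁻¹ * σ * (γ * ξ * γ⁻¹)⁻¹ * σ⁻¹ = γ * (ξ * (γ⁻¹ * σ * γ) * ξ⁻¹) * γ⁻¹ * σ⁻¹ := by group
          _ = γ * (γ⁻¹ * σ * γ) * γ⁻¹ * σ⁻¹ := by rw [e1, e2]
          _ = 1 := by group
      · exact fun x hx => mem_cenMod.mpr ⟨hRP hx, le_normalizer hx, comm_mem (hPR hs) hx⟩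
    have hcard : Nat.card P - Nat.card Z < n := by
      have h1 : Nat.card R < Nat.card Z := Set.ncard_lt_ncard hRZ (Set.toFinite _)
      have h2 : Nat.card Z ≤ Nat.card P := Subgroup.card_le_of_le hZP
      omega
    have hPZgood : Good Lam Kk A P Z := ih _ hcard Z rfl hZP hPZ hLZ (hC1.mono le_rfl hRZ.le)
    exact Good.ext hA hKk hZP hPZ hLZ hPZgood hgZ hRZ.le

end Cfsg.Agent.H42.TwoNorm
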