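import Cfsg.Agent.H67.Focal.RootGroups
import Cfsg.Agent.Linear.TwoClasses

/-!
A largest elementary abelian subgroup induces a full product of root groups on the module; together
with an opposite conjugate it induces the product of the corresponding `SL₂`'s.
-/

set_option autoImplicit false
set_option linter.unusedSectionVars false
set_option linter.style.haveILetI false

namespace Cfsg.Agent.H42.TwoNorm

open Subgroup Cfsg.Agent Matrix Cfsg.Agent.H67.Focal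
open Cfsg.Agent.H31.PushUp (omegaZ Vm omegaZ_le omegaZ_comm mem_omegaZ map_omegaZ omegaZ_pow)
open scoped commutatorElement Pointwise

universe u

section SLTwo

variable {F : Type*} [Field F]

local notation "S2" => Matrix.SpecialLinearGroup (Fin 2) F
local notation "M2" => Matrix (Fin 2) (Fin 2) F

theorem upSL_mem_unitri (t : F) : (Linear.upSL t : S2) ∈ Linear.unitriSL 2 F := by
  simp [Linear.unitriSL_two_eq, Linear.upSL_coe]

theorem eq_upSL {x : S2} (hx : x ∈ Linear.unitriSL 2 F) : x = Linear.upSL ((x : M2) 0 1) := by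
  obtain ⟨a, b, c⟩ := Linear.unitriSL_two_eq.mp hx
  exact Linear.SL_ext_two (by simp [Linear.upSL_coe, b]) (by simp [Linear.upSL_coe])
    (by simp [Linear.upSL_coe, a]) (by simp [Linear.upSL_coe, c])

/-- The lower unitriangular elements, as conjugates of the upper ones. -/
noncomputable def loSL (t : F) : S2 := Linear.compSL 0 * Linear.upSL t * (Linear.compSL 0)⁻¹

theorem loSL_coe (t : F) : ((loSL t : S2) : M2) = !![1, 0; -t, 1] := by
  rw [loSL, Matrix.SpecialLinearGroup.coe_mul, Matrix.SpecialLinearGroup.coe_mul,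
    Matrix.SpecialLinearGroup.coe_inv, Linear.compSL_coe, Linear.upSL_coe, Matrix.adjugate_fin_two_of]
  ext i j
  fin_cases i <;> fin_cases j <;> simp [Matrix.mul_apply, Fin.sum_univ_two]

/-- The element `n = u(-t) l(1/t) u(-t)`. -/
noncomputable def swapSL (t : F) : S2 := (Linear.upSL t)⁻¹ * loSL (-(1 / t)) * (Linear.upSL t)⁻¹

theorem swapSL_coe {t : F} (ht : t ≠ 0) : ((swapSL t : S2) : M2) = !![0, -t; 1 / t, 0] := by
  rw [swapSL, Matrix.SpecialLinearGroup.coe_mul, Matrix.SpecialLinearGroup.coe_mul,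
    Matrix.SpecialLinearGroup.coe_inv, loSL_coe, Linear.upSL_coe, Matrix.adjugate_fin_two_of]
  ext i j
  fin_cases i <;> fin_cases j <;> simp [Matrix.mul_apply, Fin.sum_univ_two, ht]

theorem swap_up {t : F} (ht : t ≠ 0) (x : F) :
    (swapSL t)⁻¹ * Linear.upSL x * swapSL t = (loSL (x / t ^ 2) : S2) := by
  refine Subtype.ext ?_
  rw [Matrix.SpecialLinearGroup.coe_mul, Matrix.SpecialLinearGroup.coe_mul,
    Matrix.SpecialLinearGroup.coe_inv, swapSL_coe ht, loSL_coe, Linear.upSL_coe, Matrix.adjugate_fin_two_of]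
  ext i j
  fin_cases i <;> fin_cases j <;> simp [Matrix.mul_apply, Fin.sum_univ_two] <;> field_simp <;> ring

theorem swap_lo {t : F} (ht : t ≠ 0) (x : F) :
    (swapSL t)⁻¹ * loSL x * swapSL t = (Linear.upSL (t ^ 2 * x) : S2) := by
  refine Subtype.ext ?_
  rw [Matrix.SpecialLinearGroup.coe_mul, Matrix.SpecialLinearGroup.coe_mul,
    Matrix.SpecialLinearGroup.coe_inv, swapSL_coe ht, loSL_coe, Linear.upSL_coe, Matrix.adjugate_fin_two_of]
  ext i j
  fin_cases i <;> fin_cases j <;> simp [Matrix.mul_apply, Fin.sum_univ_two] <;> field_simp <;> ring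

theorem upSL_add (a c : F) : (Linear.upSL (a + c) : S2) = Linear.upSL a * Linear.upSL c := by
  refine Subtype.ext ?_
  rw [Matrix.SpecialLinearGroup.coe_mul, Linear.upSL_coe, Linear.upSL_coe, Linear.upSL_coe]
  ext i j
  fin_cases i <;> fin_cases j <;> simp [Matrix.mul_apply, Fin.sum_univ_two, add_comm]

end SLTwo

variable {G : Type u} [Group G] [Finite G] {p : ℕ} [Fact p.Prime] {S : Sylow p G}
  (h : Setup p S) (b : Blocks S)

include h

theorem maxIn_le_Bm {A : Subgroup G} (hA : H31.MaxIn p (S : Subgroup G) A) : A ≤ Bm S :=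
  (H31.le_thompsonSubgroupOf hA).trans (Jm_le_Bm S)

include b

theorem inf_Qm_eq {X : Subgroup G} (hX : X ≤ Bm S) : X ⊓ Cm p G = X ⊓ Qm S :=
  le_antisymm (le_inf inf_le_left ((inf_le_inf_right _ hX).trans (h.Bm_inf_Cm b).le))
    (inf_le_inf_left _ (inf_le_left.trans h.pCore_le_Cm))

theorem maxIn_inf_Qm {A : Subgroup G} (hA : H31.MaxIn p (S : Subgroup G) A) :
    A ⊓ Qm S = A ⊓ Cfsg.pCore p G :=
  le_antisymm (inf_le_inf_left _ inf_le_left) ((inf_le_inf_left _ h.pCore_le_Cm).trans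
    (inf_Qm_eq h b (maxIn_le_Bm h hA)).le)

theorem Vm_le_Qm : Vm p G ≤ Qm S := le_inf (omegaZ_le _) fun _ hv => mem_centralizer_iff.mpr
  fun _ hw => H31.elem_comm (h.Wm_elem b) hw (mem_sup_left hv)

theorem Bm_le_LC : Bm S ≤ LC p G :=
  ((h.Bm_eq b).le.trans inf_le_right).trans (h.Lhat_le_LC b)

/-- The bound on the failure of factorization, inside the Baumann subgroup. -/
theorem bound_Bm {X : Subgroup G} (hX : X ≤ Bm S) :
    Nat.card X * Nat.card (Vm p G ⊓ centralizer (X : Set G) : Subgroup G) ≤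
      Nat.card (X ⊓ Qm S : Subgroup G) * Nat.card (Vm p G) := by
  rw [← inf_Qm_eq h b hX, mul_comm (Nat.card (X ⊓ Cm p G : Subgroup G))]
  exact b.card_le h (hX.trans inf_le_left) (hX.trans (Bm_le_LC h b))

theorem conj_eq_of_ψ {g : G} (hg : g ∈ LC p G) {v : G} (hv : v ∈ Vm p G)
    (hψ : b.ψ (g * v * g⁻¹) = b.ψ v) : g * v * g⁻¹ = v := by
  obtain ⟨z, hz⟩ := h.exists_zGood b
  obtain ⟨f, v', -, -, hv', hinv, hfv, hfdef⟩ := hz.split h (show v ∈ Wm S from mem_sup_left hv)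
  have hfV : f ∈ Vm p G := hfdef ▸ mul_mem hv (Blocks.conj_mem_Vm hv)
  have hf0 : b.ψ f = 0 := by
    rw [hfdef, b.ψ_mul _ hv _ (Blocks.conj_mem_Vm hv)]
    funext i
    rw [Pi.add_apply, show b.ψ (z * v * z⁻¹) i = _ from b.ψ_conj ⟨z, mem_sup_left hz.mem⟩ v hv i,
      hz.neg i, Matrix.SpecialLinearGroup.coe_neg, Matrix.SpecialLinearGroup.coe_one, Matrix.neg_mulVec,
      Matrix.one_mulVec]
    exact add_neg_cancel _
  have h1 : g * f * g⁻¹ = f := b.fixed f hfV hf0 g hg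
  have h2 : b.ψ (g * v' * g⁻¹) = b.ψ v' := by
    have e1 : g * (v * v) * g⁻¹ = f * (g * v' * g⁻¹) := by
      rw [hfv]
      calc g * (f * v') * g⁻¹ = (g * f * g⁻¹) * (g * v' * g⁻¹) := by group
        _ = _ := by rw [h1]
    have e2 := congrArg b.ψ e1
    rw [show g * (v * v) * g⁻¹ = g * v * g⁻¹ * (g * v * g⁻¹) by group,
      b.ψ_mul _ (Blocks.conj_mem_Vm hv) _ (Blocks.conj_mem_Vm hv), hψ, ← b.ψ_mul _ hv _ hv, hfv,
      b.ψ_mul _ hfV _ hv', b.ψ_mul _ hfV _ (Blocks.conj_mem_Vm hv'), hf0, zero_add, zero_add] at e2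
    exact e2.symm
  have h3 := hz.conj_eq_of_inv h hv' hinv h2
  rw [eq_sq_pow h.odd (omegaZ_pow hv), ← conj_pow, hfv]
  congr 1
  calc g * (f * v') * g⁻¹ = (g * f * g⁻¹) * (g * v' * g⁻¹) := by group
    _ = f * v' := by rw [h1, h3]

/-- Commutators of the module with `S ∩ L C` are centralised by `S ∩ L C`. -/
theorem comm_Vm_fixed {a c v : G} (ha : a ∈ (S : Subgroup G)) (haL : a ∈ LC p G)
    (hc : c ∈ (S : Subgroup G)) (hcL : c ∈ LC p G) (hv : v ∈ Vm p G) : ⁅⁅v, a⁆, c⁆ = 1 := by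
  have hav : a * v⁻¹ * a⁻¹ ∈ Vm p G := Blocks.conj_mem_Vm (inv_mem hv)
  have hd : ⁅v, a⁆ = v * (a * v⁻¹ * a⁻¹) := by simp only [commutatorElement_def]; group
  have hdV : ⁅v, a⁆ ∈ Vm p G := hd ▸ mul_mem hv hav
  rw [commutatorElement_eq_one_iff_commute]
  refine (mul_inv_eq_iff_eq_mul.mp (conj_eq_of_ψ h b hcL hdV ?_)).symm
  refine b.ψ_conj_of_bottom ⟨c, hcL⟩ hc hdV fun i => ?_
  have e := b.ψ_conj ⟨a, haL⟩ v⁻¹ (inv_mem hv) i
  simp only [] at e
  rw [hd, b.ψ_mul _ hv _ hav, Pi.add_apply, Pi.add_apply, e, b.ψ_inv hv, Pi.neg_apply]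
  obtain ⟨h10, -, h11⟩ := Linear.unitriSL_two_eq.mp (b.sylow_upper ⟨a, haL⟩ ha i)
  simp [Matrix.mulVec, dotProduct, Fin.sum_univ_two, h10, h11]

/-- The coordinates moved by `A`. -/
def supp {A : Subgroup G} (hAL : A ≤ LC p G) : Set (Fin b.r) := {i | ∃ a : A, b.ρ (inclusion hAL a) i ≠ 1}

/-- The whole product of root groups on the support occurs in `A`. -/
theorem exists_mem_of_coords {A : Subgroup G} (hA : H31.MaxIn p (S : Subgroup G) A) (hAL : A ≤ LC p G)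
    (t : ∀ i, b.F i) (ht : ∀ i, i ∉ supp b hAL → t i = 0) :
    ∃ a : A, b.ρ (inclusion hAL a) = fun i => Linear.upSL (t i) := by
  classical
  obtain ⟨-, heq⟩ := h.maxIn_exchange b hA
  have hQ : A ⊓ Cm p G = A ⊓ Cfsg.pCore p G := by
    rw [inf_Qm_eq h b (maxIn_le_Bm h hA), maxIn_inf_Qm h b hA]
  set T := {i : Fin b.r // i ∈ supp b hAL}
  have hup : ∀ (a : A) i, b.ρ (inclusion hAL a) i ∈ Linear.unitriSL 2 (b.F i) :=
    fun a i => b.sylow_upper _ (hA.1 a.2) i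
  let Φ : ↥A →* Multiplicative (∀ t : T, b.F t) := MonoidHom.mk'
    (fun a => Multiplicative.ofAdd fun t : T =>
      (b.ρ (inclusion hAL a) t : Matrix (Fin 2) (Fin 2) (b.F t)) 0 1) fun a c => by
    rw [← ofAdd_add]
    congr 1
    funext t
    rw [map_mul, map_mul, Pi.mul_apply, ← H31.PushUp.unitri_pow _ (hup a t) _ (hup c t)]
    rfl
  let θ : ↥(Vm p G) →* Multiplicative (∀ t : T, b.F t) :=
    MonoidHom.mk' (fun v => Multiplicative.ofAdd fun t : T => b.ψ v t 1) fun v w => by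
      rw [← ofAdd_add]
      congr 1
      funext t
      rw [Subgroup.coe_mul, b.ψ_mul v v.2 w w.2]
      rfl
  have hθs : Function.Surjective θ := by
    intro y
    obtain ⟨v, hv, hvy⟩ := b.ψ_surj fun i =>
      if hi : i ∈ supp b hAL then ![0, Multiplicative.toAdd y ⟨i, hi⟩] else 0
    refine ⟨⟨v, hv⟩, ?_⟩
    show Multiplicative.ofAdd _ = y
    rw [← ofAdd_toAdd y]
    congr 1
    funext t
    rw [show b.ψ v (t : Fin b.r) = _ from congrFun hvy _, dif_pos t.2]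
    rfl
  have hθk : (Vm p G ⊓ centralizer (A : Set G) : Subgroup G).subgroupOf (Vm p G) ≤ θ.ker := by
    intro v hv
    rw [mem_subgroupOf] at hv
    show Multiplicative.ofAdd _ = Multiplicative.ofAdd 0
    congr 1
    funext t
    obtain ⟨a, ha⟩ := t.2
    refine (unitri_mulVec_iff (hup a t) ha _).mp ?_
    have h1 := b.ψ_conj (inclusion hAL a) v hv.1 t
    rw [show ((inclusion hAL a : ↥(LC p G)) : G) * v * ((inclusion hAL a : ↥(LC p G)) : G)⁻¹ = v by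
      rw [coe_inclusion, mem_centralizer_iff.mp hv.2 a a.2, mul_inv_cancel_right]] at h1
    exact h1.symm
  have hΦk : Φ.ker.map A.subtype ≤ A ⊓ Cm p G := by
    rintro _ ⟨a, ha, rfl⟩
    refine ⟨a.2, b.mem_Cm_of_ρ h (g := inclusion hAL a) (funext fun i => ?_)⟩
    by_cases hi : i ∈ supp b hAL
    · have h0 : (b.ρ (inclusion hAL a) i : Matrix (Fin 2) (Fin 2) (b.F i)) 0 1 = 0 :=
        congrFun (congrArg Multiplicative.toAdd (MonoidHom.mem_ker.mp ha)) ⟨i, hi⟩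
      rw [eq_upSL (hup a i), h0]
      exact Linear.SL_ext_two (by simp [Linear.upSL_coe]) (by simp [Linear.upSL_coe])
        (by simp [Linear.upSL_coe]) (by simp [Linear.upSL_coe])
    · simp only [supp, Set.mem_setOf_eq, not_exists, not_not] at hi
      exact hi a
  have hsurj : Function.Surjective Φ := by
    rw [← MonoidHom.range_eq_top]
    refine eq_top_of_le_card _ ?_
    set q := Nat.card (Multiplicative (∀ t : T, b.F t))
    have h1 : Nat.card Φ.range * Nat.card Φ.ker = Nat.card A := by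
      rw [← Nat.card_congr (QuotientGroup.quotientKerEquivRange Φ).toEquiv,
        ← Subgroup.card_eq_card_quotient_mul_card_subgroup]
    have h2 : q * Nat.card θ.ker = Nat.card (Vm p G) := by
      rw [show q = Nat.card (↥(Vm p G) ⧸ θ.ker) from
          (Nat.card_congr (QuotientGroup.quotientKerEquivOfSurjective θ hθs).toEquiv).symm,
        ← Subgroup.card_eq_card_quotient_mul_card_subgroup]
    have h3 : Nat.card (Vm p G ⊓ centralizer (A : Set G) : Subgroup G) ≤ Nat.card θ.ker := by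
      rw [← Nat.card_congr (subgroupOfEquivOfLe (inf_le_left :
        Vm p G ⊓ centralizer (A : Set G) ≤ Vm p G)).toEquiv]
      exact Subgroup.card_le_of_le hθk
    have h4 : Nat.card Φ.ker ≤ Nat.card (A ⊓ Cfsg.pCore p G : Subgroup G) := by
      rw [← hQ, ← card_map_of_injective A.subtype_injective]
      exact Subgroup.card_le_of_le hΦk
    refine Nat.le_of_mul_le_mul_right ?_ (Nat.mul_pos (Nat.card_pos (α := θ.ker))
      (Nat.card_pos (α := Φ.ker)))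
    calc q * (Nat.card θ.ker * Nat.card Φ.ker) = Nat.card (Vm p G) * Nat.card Φ.ker := by
          rw [← mul_assoc, h2]
      _ ≤ Nat.card (Vm p G) * Nat.card (A ⊓ Cfsg.pCore p G : Subgroup G) := Nat.mul_le_mul_left _ h4
      _ = Nat.card A * Nat.card (Vm p G ⊓ centralizer (A : Set G) : Subgroup G) := heq.symm
      _ ≤ Nat.card A * Nat.card θ.ker := Nat.mul_le_mul_left _ h3
      _ = Nat.card Φ.range * (Nat.card θ.ker * Nat.card Φ.ker) := by rw [← h1]; ring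
  obtain ⟨a, ha⟩ := hsurj (Multiplicative.ofAdd fun i : T => t i)
  refine ⟨a, funext fun i => ?_⟩
  by_cases hi : i ∈ supp b hAL
  · rw [eq_upSL (hup a i)]
    congr 1
    exact congrFun (Multiplicative.ofAdd.injective ha) ⟨i, hi⟩
  · rw [ht i hi]
    have hi' := hi
    simp only [supp, Set.mem_setOf_eq, not_exists, not_not] at hi'
    rw [hi' a]
    exact Linear.SL_ext_two (by simp [Linear.upSL_coe]) (by simp [Linear.upSL_coe])
      (by simp [Linear.upSL_coe]) (by simp [Linear.upSL_coe])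

/-- What is needed about `A` and an opposite conjugate `A'`. -/
structure Opp (p : ℕ) (G : Type u) [Group G] (A A' : Subgroup G) : Prop where
  leA : A ≤ Lm p G
  leA' : A' ≤ Lm p G
  conj : ∃ g ∈ Lm p G, A' = A.map (MulAut.conj g).toMonoidHom
  left : ∀ a ∈ A, ∃ a₁ ∈ A, ∃ a₂ ∈ A, a = a₁ * a₂ ∧
    (∃ l ∈ A', ∀ x, (x ∈ A → (a₁⁻¹ * l * a₁⁻¹)⁻¹ * x * (a₁⁻¹ * l * a₁⁻¹) ∈ A' ⊔ ((A ⊔ A') ⊓ Cm p G)) ∧
      (x ∈ A' → (a₁⁻¹ * l * a₁⁻¹)⁻¹ * x * (a₁⁻¹ * l * a₁⁻¹) ∈ A ⊔ ((A ⊔ A') ⊓ Cm p G))) ∧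
    ∃ l ∈ A', ∀ x, (x ∈ A → (a₂⁻¹ * l * a₂⁻¹)⁻¹ * x * (a₂⁻¹ * l * a₂⁻¹) ∈ A' ⊔ ((A ⊔ A') ⊓ Cm p G)) ∧
      (x ∈ A' → (a₂⁻¹ * l * a₂⁻¹)⁻¹ * x * (a₂⁻¹ * l * a₂⁻¹) ∈ A ⊔ ((A ⊔ A') ⊓ Cm p G))
  right : ∀ l ∈ A', ∃ l₁ ∈ A', ∃ l₂ ∈ A', l = l₁ * l₂ ∧
    (∃ a ∈ A, ∀ x, (x ∈ A → (a⁻¹ * l₁ * a⁻¹)⁻¹ * x * (a⁻¹ * l₁ * a⁻¹) ∈ A' ⊔ ((A ⊔ A') ⊓ Cm p G)) ∧
      (x ∈ A' → (a⁻¹ * l₁ * a⁻¹)⁻¹ * x * (a⁻¹ * l₁ * a⁻¹) ∈ A ⊔ ((A ⊔ A') ⊓ Cm p G))) ∧
    ∃ a ∈ A, ∀ x, (x ∈ A → (a⁻¹ * l₂ * a⁻¹)⁻¹ * x * (a⁻¹ * l₂ * a⁻¹) ∈ A' ⊔ ((A ⊔ A') ⊓ Cm p G)) ∧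
      (x ∈ A' → (a⁻¹ * l₂ * a⁻¹)⁻¹ * x * (a⁻¹ * l₂ * a⁻¹) ∈ A ⊔ ((A ⊔ A') ⊓ Cm p G))
  normalised : Lm p G ≤ normalizer (((A ⊔ A') ⊔ (Lm p G ⊓ Cm p G) : Subgroup G) : Set G)
  split : ∀ v ∈ Vm p G, ∃ x y, x ∈ Vm p G ∧ y ∈ Vm p G ∧ v = x * y ∧
    (∀ a ∈ A, a * x * a⁻¹ = x) ∧ ∀ a ∈ A', a * y * a⁻¹ = y

set_option maxHeartbeats 1600000 in
theorem exists_opp {A : Subgroup G} (hA : H31.MaxIn p (S : Subgroup G) A) :
    ∃ A' : Subgroup G, Opp p G A A' := by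
  classical
  have hALm : A ≤ Lm p G := (H31.le_thompsonSubgroupOf hA).trans (Jm_le_Lm S)
  have hAL : A ≤ LC p G := hALm.trans le_sup_left
  set I := supp b hAL with hI
  obtain ⟨gg, hgL, hg⟩ := b.ρ_surj_Lm fun i => if i ∈ I then Linear.compSL 0 else 1
  set g : G := (gg : G) with hgdef
  set A' := A.map (MulAut.conj g).toMonoidHom with hA'
  have hA'Lm : A' ≤ Lm p G := by
    rintro _ ⟨a, ha, rfl⟩
    exact (inferInstance : (Lm p G).Normal).conj_mem a (hALm ha) g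
  have hA'L : A' ≤ LC p G := hA'Lm.trans le_sup_left
  have hupa : ∀ a : A, ∀ i, b.ρ (inclusion hAL a) i ∈ Linear.unitriSL 2 (b.F i) :=
    fun a i => b.sylow_upper _ (hA.1 a.2) i
  have h0 : ∀ i, (Linear.upSL (0 : b.F i)) = 1 := fun i =>
    Linear.SL_ext_two (by simp [Linear.upSL_coe]) (by simp [Linear.upSL_coe])
      (by simp [Linear.upSL_coe]) (by simp [Linear.upSL_coe])
  -- coordinates of `A`
  have coordA : ∀ a : A, ∃ t : ∀ i, b.F i, (∀ i, i ∉ I → t i = 0) ∧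
      b.ρ (inclusion hAL a) = fun i => Linear.upSL (t i) := fun a => by
    refine ⟨fun i => (b.ρ (inclusion hAL a) i : Matrix (Fin 2) (Fin 2) (b.F i)) 0 1, fun i hi => ?_,
      funext fun i => eq_upSL (hupa a i)⟩
    simp only [hI, supp, Set.mem_setOf_eq, not_exists, not_not] at hi
    have h1 := hi a
    simp only [h1]
    simp
  -- coordinates of `A'`
  let loI : ∀ t : ∀ i, b.F i, ∀ i, Matrix.SpecialLinearGroup (Fin 2) (b.F i) := fun t i =>
    if i ∈ I then loSL (t i) else 1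
  have ρconj : ∀ a : A, ∀ t : ∀ i, b.F i, (∀ i, i ∉ I → t i = 0) →
      b.ρ (inclusion hAL a) = (fun i => Linear.upSL (t i)) →
      b.ρ ⟨g * a * g⁻¹, hA'L ⟨a, a.2, rfl⟩⟩ = loI t := by
    intro a t ht hat
    have e : (⟨g * a * g⁻¹, hA'L ⟨a, a.2, rfl⟩⟩ : ↥(LC p G)) = gg * inclusion hAL a * gg⁻¹ :=
      Subtype.ext rfl
    rw [e, map_mul, map_mul, map_inv, hat, hg]
    funext i
    simp only [Pi.mul_apply, Pi.inv_apply, loI]
    by_cases hi : i ∈ I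
    · simp [hi, loSL]
    · simp [hi, ht i hi, h0]
  have hAA'L : A ⊔ A' ≤ LC p G := sup_le hAL hA'L
  -- elements with the same image differ by an element of the kernel
  have cong : ∀ (x y : G) (hx : x ∈ A ⊔ A') (hy : y ∈ A ⊔ A'),
      b.ρ ⟨x, hAA'L hx⟩ = b.ρ ⟨y, hAA'L hy⟩ → x⁻¹ * y ∈ (A ⊔ A') ⊓ Cm p G := by
    intro x y hx hy e
    refine ⟨Subgroup.mul_mem _ (Subgroup.inv_mem _ hx) hy, b.mem_Cm_of_ρ h (g := (⟨x, hAA'L hx⟩⁻¹ * ⟨y, hAA'L hy⟩)) ?_⟩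
    rw [map_mul, map_inv, e, inv_mul_cancel]
  -- the exchanging property
  have swp : ∀ (n : G) (hn : n ∈ A ⊔ A') (t : ∀ i, b.F i), (∀ i, i ∈ I → t i ≠ 0) →
      b.ρ ⟨n, hAA'L hn⟩ = (fun i => if i ∈ I then swapSL (t i) else 1) →
      ∀ x, (x ∈ A → n⁻¹ * x * n ∈ A' ⊔ ((A ⊔ A') ⊓ Cm p G)) ∧
        (x ∈ A' → n⁻¹ * x * n ∈ A ⊔ ((A ⊔ A') ⊓ Cm p G)) := by
    intro n hn t htn hρn x
    constructor
    · intro hx
      obtain ⟨s, hs, hsx⟩ := coordA ⟨x, hx⟩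
      obtain ⟨a, ha⟩ := exists_mem_of_coords h b hA hAL (fun i => s i / t i ^ 2)
        fun i hi => by rw [hs i hi, zero_div]
      have hmem : g * a * g⁻¹ ∈ A' := ⟨a, a.2, rfl⟩
      have hnx : n⁻¹ * x * n ∈ A ⊔ A' := mul_mem (mul_mem (inv_mem hn) (mem_sup_left hx)) hn
      have hk := cong _ _ (mem_sup_right hmem) hnx (by
        rw [ρconj a _ (fun i hi => by rw [hs i hi, zero_div]) ha]
        have e : (⟨n⁻¹ * x * n, hAA'L hnx⟩ : ↥(LC p G)) =
            ⟨n, hAA'L hn⟩⁻¹ * inclusion hAL ⟨x, hx⟩ * ⟨n, hAA'L hn⟩ := Subtype.ext rfl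
        rw [e, map_mul, map_mul, map_inv, hsx, hρn]
        funext i
        simp only [Pi.mul_apply, Pi.inv_apply, loI]
        by_cases hi : i ∈ I
        · simp only [hi, if_true]
          exact (swap_up (htn i hi) (s i)).symm
        · simp [hi, hs i hi, h0])
      have := mul_mem (mem_sup_left hmem : g * a * g⁻¹ ∈ A' ⊔ ((A ⊔ A') ⊓ Cm p G)) (mem_sup_right hk)
      simpa [mul_assoc] using this
    · rintro ⟨y, hy, rfl⟩
      obtain ⟨s, hs, hsy⟩ := coordA ⟨y, hy⟩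
      obtain ⟨a, ha⟩ := exists_mem_of_coords h b hA hAL (fun i => t i ^ 2 * s i)
        fun i hi => by rw [hs i hi, mul_zero]
      have hy' : (MulAut.conj g).toMonoidHom y ∈ A' := ⟨y, hy, rfl⟩
      have hnx : n⁻¹ * (MulAut.conj g).toMonoidHom y * n ∈ A ⊔ A' :=
        mul_mem (mul_mem (inv_mem hn) (mem_sup_right hy')) hn
      have hk := cong _ _ (mem_sup_left a.2) hnx (by
        rw [show (⟨(a : G), hAA'L (mem_sup_left a.2)⟩ : ↥(LC p G)) = inclusion hAL a from Subtype.ext rfl, ha]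
        have e : (⟨n⁻¹ * (MulAut.conj g).toMonoidHom y * n, hAA'L hnx⟩ : ↥(LC p G)) =
            ⟨n, hAA'L hn⟩⁻¹ * ⟨g * y * g⁻¹, hA'L ⟨y, hy, rfl⟩⟩ * ⟨n, hAA'L hn⟩ := Subtype.ext rfl
        rw [e, map_mul, map_mul, map_inv, ρconj ⟨y, hy⟩ s hs hsy, hρn]
        funext i
        simp only [Pi.mul_apply, Pi.inv_apply, loI]
        by_cases hi : i ∈ I
        · simp only [hi, if_true]
          exact (swap_lo (htn i hi) (s i)).symm
        · simp [hi, hs i hi, h0])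
      have := mul_mem (mem_sup_left a.2 : (a : G) ∈ A ⊔ ((A ⊔ A') ⊓ Cm p G)) (mem_sup_right hk)
      simpa [mul_assoc] using this
  -- pairs
  have pair : ∀ (a c : A) (t : ∀ i, b.F i), (∀ i, i ∉ I → t i = 0) → (∀ i, i ∈ I → t i ≠ 0) →
      b.ρ (inclusion hAL a) = (fun i => Linear.upSL (t i)) →
      b.ρ (inclusion hAL c) = (fun i => Linear.upSL (-(1 / t i))) →
      ∀ x, (x ∈ A → ((a : G)⁻¹ * (g * c * g⁻¹) * (a : G)⁻¹)⁻¹ * x * ((a : G)⁻¹ * (g * c * g⁻¹) * (a : G)⁻¹)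
          ∈ A' ⊔ ((A ⊔ A') ⊓ Cm p G)) ∧
        (x ∈ A' → ((a : G)⁻¹ * (g * c * g⁻¹) * (a : G)⁻¹)⁻¹ * x * ((a : G)⁻¹ * (g * c * g⁻¹) * (a : G)⁻¹)
          ∈ A ⊔ ((A ⊔ A') ⊓ Cm p G)) := by
    intro a c t ht0 htn hat hct
    have hn : (a : G)⁻¹ * (g * c * g⁻¹) * (a : G)⁻¹ ∈ A ⊔ A' :=
      mul_mem (mul_mem (inv_mem (mem_sup_left a.2)) (mem_sup_right (⟨c, c.2, rfl⟩ : g * c * g⁻¹ ∈ A')))
        (inv_mem (mem_sup_left a.2))
    refine swp _ hn t htn ?_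
    have e : (⟨_, hAA'L hn⟩ : ↥(LC p G)) =
        (inclusion hAL a)⁻¹ * ⟨g * c * g⁻¹, hA'L ⟨c, c.2, rfl⟩⟩ * (inclusion hAL a)⁻¹ := Subtype.ext rfl
    rw [e, map_mul, map_mul, map_inv, hat,
      ρconj c (fun i => -(1 / t i)) (fun i hi => by simp [ht0 i hi]) hct]
    funext i
    simp only [Pi.mul_apply, Pi.inv_apply, loI]
    by_cases hi : i ∈ I
    · simp [hi, swapSL]
    · simp [hi, ht0 i hi, h0]
  have two : ∀ i, (2 : b.F i) ≠ 0 := fun i => natCast_two_ne_zero (p := p) h.odd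
  have decomp : ∀ t : ∀ i, b.F i, (∀ i, i ∉ I → t i = 0) → ∃ t₁ t₂ : ∀ i, b.F i,
      (∀ i, i ∉ I → t₁ i = 0) ∧ (∀ i, i ∉ I → t₂ i = 0) ∧ (∀ i, i ∈ I → t₁ i ≠ 0) ∧
      (∀ i, i ∈ I → t₂ i ≠ 0) ∧ ∀ i, t i = t₁ i + t₂ i := by
    intro t ht
    refine ⟨fun i => if i ∈ I then (if t i = 0 then 1 else 2 * t i) else 0,
      fun i => if i ∈ I then (if t i = 0 then -1 else - t i) else 0, ?_, ?_, ?_, ?_, fun i => ?_⟩
    · intro i hi; simp [hi]
    · intro i hi; simp [hi]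
    · intro i hi; by_cases h' : t i = 0 <;> simp [hi, h', two i]
    · intro i hi; by_cases h' : t i = 0 <;> simp [hi, h']
    · by_cases hi : i ∈ I
      · by_cases h' : t i = 0 <;> simp [hi, h']
        ring
      · simp [hi, ht i hi]
  refine ⟨A', hALm, hA'Lm, ⟨g, hgL, rfl⟩, fun a ha => ?_, fun l hl => ?_, ?_, fun v hv => ?_⟩
  · obtain ⟨t, ht, hat⟩ := coordA ⟨a, ha⟩
    obtain ⟨t₁, t₂, z₁, z₂, n₁, n₂, hadd⟩ := decomp t ht
    obtain ⟨a₁, ha₁⟩ := exists_mem_of_coords h b hA hAL t₁ z₁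
    set a₂ : A := a₁⁻¹ * ⟨a, ha⟩ with ha₂def
    have ha₂ : b.ρ (inclusion hAL a₂) = fun i => Linear.upSL (t₂ i) := by
      rw [ha₂def, map_mul, map_mul, map_inv, map_inv, ha₁, hat]
      funext i
      rw [Pi.mul_apply, Pi.inv_apply, hadd i, upSL_add, inv_mul_cancel_left]
    obtain ⟨c₁, hc₁⟩ := exists_mem_of_coords h b hA hAL (fun i => -(1 / t₁ i))
      fun i hi => by simp [z₁ i hi]
    obtain ⟨c₂, hc₂⟩ := exists_mem_of_coords h b hA hAL (fun i => -(1 / t₂ i))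
      fun i hi => by simp [z₂ i hi]
    exact ⟨a₁, a₁.2, a₂, a₂.2, by simp [ha₂def], ⟨_, ⟨c₁, c₁.2, rfl⟩, pair a₁ c₁ t₁ z₁ n₁ ha₁ hc₁⟩,
      ⟨_, ⟨c₂, c₂.2, rfl⟩, pair a₂ c₂ t₂ z₂ n₂ ha₂ hc₂⟩⟩
  · obtain ⟨c, hc, rfl⟩ := hl
    obtain ⟨t, ht, hct⟩ := coordA ⟨c, hc⟩
    obtain ⟨t₁, t₂, z₁, z₂, n₁, n₂, hadd⟩ := decomp t ht
    obtain ⟨c₁, hc₁⟩ := exists_mem_of_coords h b hA hAL t₁ z₁
    set c₂ : A := c₁⁻¹ * ⟨c, hc⟩ with hc₂def
    have hc₂ : b.ρ (inclusion hAL c₂) = fun i => Linear.upSL (t₂ i) := by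
      rw [hc₂def, map_mul, map_mul, map_inv, map_inv, hc₁, hct]
      funext i
      rw [Pi.mul_apply, Pi.inv_apply, hadd i, upSL_add, inv_mul_cancel_left]
    obtain ⟨a₁, ha₁⟩ := exists_mem_of_coords h b hA hAL (fun i => -(1 / t₁ i))
      fun i hi => by simp [z₁ i hi]
    obtain ⟨a₂, ha₂⟩ := exists_mem_of_coords h b hA hAL (fun i => -(1 / t₂ i))
      fun i hi => by simp [z₂ i hi]
    have inv_inv' : ∀ (t' : ∀ i, b.F i), (fun i => -(1 / (-(1 / t' i)))) = t' := fun t' => funext fun i => by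
      by_cases h' : t' i = 0
      · simp [h']
      · field_simp
    refine ⟨_, ⟨c₁, c₁.2, rfl⟩, _, ⟨c₂, c₂.2, rfl⟩, ?_,
      ⟨a₁, a₁.2, pair a₁ c₁ (fun i => -(1 / t₁ i)) (fun i hi => by simp [z₁ i hi])
        (fun i hi => by simp [n₁ i hi]) ha₁ ?_⟩,
      ⟨a₂, a₂.2, pair a₂ c₂ (fun i => -(1 / t₂ i)) (fun i hi => by simp [z₂ i hi])
        (fun i hi => by simp [n₂ i hi]) ha₂ ?_⟩⟩
    · rw [← map_mul, ← Subgroup.coe_mul, hc₂def, mul_inv_cancel_left]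
    · rw [hc₁]
      funext i
      rw [congrFun (inv_inv' t₁) i]
    · rw [hc₂]
      funext i
      rw [congrFun (inv_inv' t₂) i]
  · -- every element with the support of `A` occurs in `A ⊔ A'`
    set H : Subgroup (∀ i, Matrix.SpecialLinearGroup (Fin 2) (b.F i)) :=
      ((A ⊔ A').subgroupOf (LC p G)).map b.ρ with hH
    have hsuppmem : ∀ y : ∀ i, Matrix.SpecialLinearGroup (Fin 2) (b.F i), (∀ i, i ∉ I → y i = 1) →
        y ∈ H := by
      intro y hy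
      refine Subgroup.pi_mem_of_mulSingle_mem y fun i => ?_
      by_cases hi : i ∈ I
      · have htop : Linear.unitriSL 2 (b.F i) ⊔
            (MulAut.conj (Linear.compSL (0 : b.F i)) • Linear.unitriSL 2 (b.F i)) ≤
            H.comap (MonoidHom.mulSingle (fun i => Matrix.SpecialLinearGroup (Fin 2) (b.F i)) i) := by
          have hsingle : ∀ x : b.F i, ∃ a : A, b.ρ (inclusion hAL a) =
              (fun j => Linear.upSL ((Pi.single i x : ∀ j, b.F j) j)) :=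
            fun x => exists_mem_of_coords h b hA hAL _ fun j hj =>
              Pi.single_eq_of_ne (fun e : j = i => hj (e ▸ hi)) x
          refine sup_le (fun u hu => ?_) fun u hu => ?_
          · obtain ⟨a, ha⟩ := hsingle ((u : Matrix (Fin 2) (Fin 2) (b.F i)) 0 1)
            refine ⟨inclusion hAL a, mem_subgroupOf.mpr (mem_sup_left a.2), ?_⟩
            rw [ha]
            funext j
            rcases eq_or_ne j i with rfl | hne
            · rw [Pi.single_eq_same, MonoidHom.mulSingle_apply, Pi.mulSingle_eq_same]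
              exact (eq_upSL hu).symm
            · rw [Pi.single_eq_of_ne hne, h0, MonoidHom.mulSingle_apply, Pi.mulSingle_eq_of_ne hne]
          · rw [Subgroup.mem_smul_pointwise_iff_exists] at hu
            obtain ⟨u, hu, rfl⟩ := hu
            obtain ⟨a, ha⟩ := hsingle ((u : Matrix (Fin 2) (Fin 2) (b.F i)) 0 1)
            refine ⟨⟨g * a * g⁻¹, hA'L ⟨a, a.2, rfl⟩⟩,
              mem_subgroupOf.mpr (mem_sup_right ⟨a, a.2, rfl⟩), ?_⟩
            rw [ρconj a _ (fun j hj => Pi.single_eq_of_ne (fun e : j = i => hj (e ▸ hi)) _) ha]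
            funext j
            rcases eq_or_ne j i with rfl | hne
            · simp only [loI, hi, if_true, Pi.single_eq_same, MonoidHom.mulSingle_apply, Pi.mulSingle_eq_same]
              rw [loSL, ← eq_upSL hu, MulAut.smul_def, MulAut.conj_apply]
            · simp only [loI, Pi.single_eq_of_ne hne, MonoidHom.mulSingle_apply, Pi.mulSingle_eq_of_ne hne]
              split_ifs <;> simp [loSL, h0]
        rw [Linear.unitriSL_sup_conj_eq_top (by simp [Linear.compSL_coe])] at htop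
        exact htop (mem_top (y i))
      · rw [hy i hi, Pi.mulSingle_one]
        exact one_mem _
    set Y := (A ⊔ A') ⊔ (Lm p G ⊓ Cm p G) with hY
    have hYL : Y ≤ LC p G := sup_le hAA'L (inf_le_left.trans le_sup_left)
    have hsupp : ∀ (x : G) (hx : x ∈ Y), ∀ i, i ∉ I → b.ρ ⟨x, hYL hx⟩ i = 1 := by
      intro x hx i hi
      have hle : Y ≤ (((Pi.evalMonoidHom _ i).comp b.ρ).ker).map (LC p G).subtype := by
        refine sup_le (sup_le (fun a ha => ?_) fun a ha => ?_) fun k hk => ?_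
        · obtain ⟨t, ht, hat⟩ := coordA ⟨a, ha⟩
          refine ⟨inclusion hAL ⟨a, ha⟩, ?_, rfl⟩
          show b.ρ (inclusion hAL ⟨a, ha⟩) i = 1
          rw [congrFun hat i, ht i hi, h0]
        · obtain ⟨c, hc, rfl⟩ := ha
          obtain ⟨t, ht, hct⟩ := coordA ⟨c, hc⟩
          refine ⟨⟨g * c * g⁻¹, hA'L ⟨c, hc, rfl⟩⟩, ?_, rfl⟩
          show b.ρ _ i = 1
          rw [congrFun (ρconj ⟨c, hc⟩ t ht hct) i]
          simp [loI, hi]
        · refine ⟨⟨k, mem_sup_left hk.1⟩, ?_, rfl⟩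
          show b.ρ _ i = 1
          rw [b.ρ_of_Cm (g := ⟨k, mem_sup_left hk.1⟩) hk.2]
          rfl
      obtain ⟨y, hy, hyx⟩ := hle hx
      rw [show (⟨x, hYL hx⟩ : ↥(LC p G)) = y from Subtype.ext hyx.symm]
      exact hy
    refine le_normalizer_iff.mpr fun l hl x hx => ?_
    have hlxL : l * x * l⁻¹ ∈ LC p G := (inferInstance : (LC p G).Normal).conj_mem x (hYL hx) l
    obtain ⟨y, hy, hyρ⟩ := hsuppmem (b.ρ ⟨l * x * l⁻¹, hlxL⟩) fun i hi => by
      rw [show (⟨l * x * l⁻¹, hlxL⟩ : ↥(LC p G)) =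
        ⟨l, mem_sup_left hl⟩ * ⟨x, hYL hx⟩ * ⟨l, mem_sup_left hl⟩⁻¹ from Subtype.ext rfl, map_mul,
        map_mul, map_inv, Pi.mul_apply, Pi.mul_apply, Pi.inv_apply, hsupp x hx i hi]
      group
    have hyY : (y : G) ∈ Y := mem_sup_left (mem_subgroupOf.mp hy)
    have hC : (y : G)⁻¹ * (l * x * l⁻¹) ∈ Lm p G ⊓ Cm p G := by
      refine ⟨Subgroup.mul_mem _ (Subgroup.inv_mem _ ((sup_le hALm hA'Lm) (mem_subgroupOf.mp hy)))
        ((inferInstance : (Lm p G).Normal).conj_mem x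
          ((sup_le (sup_le hALm hA'Lm) inf_le_left : Y ≤ Lm p G) hx) l),
        b.mem_Cm_of_ρ h (g := y⁻¹ * ⟨l * x * l⁻¹, hlxL⟩) ?_⟩
      rw [map_mul, map_inv, hyρ, inv_mul_cancel]
    have := mul_mem hyY (mem_sup_right hC : (y : G)⁻¹ * (l * x * l⁻¹) ∈ Y)
    rwa [mul_inv_cancel_left] at this
  · -- splitting of the module
    obtain ⟨x, hx, hxψ⟩ := b.ψ_surj fun i => ![b.ψ v i 0, 0]
    have hy : x⁻¹ * v ∈ Vm p G := mul_mem (inv_mem hx) hv
    have hfixA : ∀ w ∈ Vm p G, (∀ i, i ∈ I → b.ψ w i 1 = 0) → ∀ a ∈ A, a * w * a⁻¹ = w := by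
      intro w hw h0w a ha
      refine conj_eq_of_ψ h b (hAL ha) hw (funext fun i => ?_)
      rw [show b.ψ (a * w * a⁻¹) i = _ from b.ψ_conj (inclusion hAL ⟨a, ha⟩) w hw i]
      by_cases h1 : b.ρ (inclusion hAL ⟨a, ha⟩) i = 1
      · rw [h1, Matrix.SpecialLinearGroup.coe_one, Matrix.one_mulVec]
      · exact (unitri_mulVec_iff (hupa ⟨a, ha⟩ i) h1 _).mpr (h0w i ⟨⟨a, ha⟩, h1⟩)
    refine ⟨x, x⁻¹ * v, hx, hy, by rw [mul_inv_cancel_left], hfixA x hx fun i _ => by rw [hxψ]; rfl, ?_⟩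
    rintro _ ⟨a, ha, rfl⟩
    set w := g⁻¹ * (x⁻¹ * v) * g with hw
    have hwV : w ∈ Vm p G := by
      simpa [hw] using Blocks.conj_mem_Vm (g := g⁻¹) hy
    have hψy : ∀ i, b.ψ (x⁻¹ * v) i 0 = 0 := fun i => by
      rw [b.ψ_mul _ (inv_mem hx) _ hv, b.ψ_inv hx, hxψ]
      simp
    have hfix := hfixA w hwV (fun i hi => by
      have e := b.ψ_conj gg⁻¹ (x⁻¹ * v) hy i
      rw [show ((gg⁻¹ : ↥(LC p G)) : G) = g⁻¹ from rfl, inv_inv] at e
      rw [hw, e, map_inv, hg, Pi.inv_apply, if_pos hi, Matrix.SpecialLinearGroup.coe_inv,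
        Linear.compSL_coe, Matrix.adjugate_fin_two_of]
      simp [Matrix.mulVec, dotProduct, Fin.sum_univ_two, hψy i]) a ha
    calc (MulAut.conj g).toMonoidHom a * (x⁻¹ * v) * ((MulAut.conj g).toMonoidHom a)⁻¹
        = g * (a * w * a⁻¹) * g⁻¹ := by simp [hw, mul_assoc]
      _ = x⁻¹ * v := by rw [hfix, hw]; group

end Cfsg.Agent.H42.TwoNorm
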