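import Cfsg.Agent.H42.TwoNorm.Image
import Cfsg.Agent.H46.PushUp.Main
import Cfsg.Agent.H62.CD

/-!
In the constrained situation the Frattini join of the minimal centrally large subgroups of the Baumann
subgroup is normal; when it is trivial, the largest measure in `B(S)` is that of an elementary abelian
subgroup.
-/

set_option autoImplicit false
set_option linter.unusedSectionVars false
set_option linter.style.haveILetI false

namespace Cfsg.Agent.H42.TwoNorm

open Subgroup Cfsg.Agent Cfsg.Agent.H67.Focal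
open Cfsg.Agent.H31.PushUp (omegaZ Vm omegaZ_le omegaZ_comm omegaZ_pow)
open scoped commutatorElement

universe u

variable {G : Type u} [Group G] [Finite G] {p : ℕ} [Fact p.Prime] {S : Sylow p G}
  (h : Setup p S) (b : Blocks S)

include h b

theorem repl_Bm : H46.PushUp.Repl p ((Vm p G).subgroupOf (Bm S)) ((Qm S).subgroupOf (Bm S)) where
  le := fun _ hv => Vm_le_Qm h b hv
  cc_le := fun _ hq v hv => Subtype.ext (omegaZ_comm hv (mem_subgroupOf.mp hq).1).symm
  pow := fun v hv => Subtype.ext (by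
    rw [SubgroupClass.coe_pow, omegaZ_pow (mem_subgroupOf.mp hv)]; rfl)
  bound := fun X => by
    have hinj := (Bm S).subtype_injective
    have hX : X.map (Bm S).subtype ≤ Bm S := map_subtype_le X
    have hV : Vm p G ≤ Bm S := (Vm_le_Qm h b).trans (h.Qm_le_Bm b)
    have e1 : ((Vm p G).subgroupOf (Bm S) ⊓ H62.cc X).map (Bm S).subtype =
        Vm p G ⊓ centralizer ((X.map (Bm S).subtype : Subgroup G) : Set G) := by
      ext y
      simp only [mem_map, mem_inf, mem_centralizer_iff, SetLike.mem_coe, mem_subgroupOf,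
        forall_exists_index, and_imp, forall_apply_eq_imp_iff₂, Subgroup.coe_subtype]
      constructor
      · rintro ⟨x, ⟨hxV, hxc⟩, rfl⟩
        exact ⟨hxV, fun r hr => congrArg Subtype.val (hxc r hr)⟩
      · rintro ⟨hy, hc⟩
        exact ⟨⟨y, hV hy⟩, ⟨hy, fun r hr => Subtype.ext (hc r hr)⟩, rfl⟩
    have e2 : (X ⊓ (Qm S).subgroupOf (Bm S)).map (Bm S).subtype = X.map (Bm S).subtype ⊓ Qm S := by
      rw [Subgroup.map_inf _ _ _ hinj, subgroupOf_map_subtype, inf_eq_left.mpr (h.Qm_le_Bm b)]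
    have h0 := bound_Bm h b hX
    rw [← e1, ← e2, card_map_of_injective hinj, card_map_of_injective hinj,
      card_map_of_injective hinj] at h0
    rwa [Nat.card_congr (subgroupOfEquivOfLe hV).toEquiv]

theorem Bm_isPGroup : IsPGroup p ↥(Bm S) := S.isPGroup'.to_le inf_le_left

set_option maxHeartbeats 800000 in
/-- The Frattini join is normal. -/
theorem frattiniJoin_Bm_normal :
    ((Cfsg.frattiniOfMinimalCLJoin p ↥(Bm S)).map (Bm S).subtype).Normal := by
  haveI hQn := h.Qm_normal b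
  have hr := repl_Bm h b
  have hP := Bm_isPGroup h b
  refine ⟨fun x hx g => ?_⟩
  set Q' := (Qm S).subgroupOf (Bm S) with hQ'
  let cj : ↥Q' →* ↥(Bm S) :=
    { toFun := fun q => ⟨g * ((q : ↥(Bm S)) : G) * g⁻¹, h.Qm_le_Bm b (hQn.conj_mem _ q.2 g)⟩
      map_one' := Subtype.ext (by simp)
      map_mul' := fun a c => Subtype.ext (by simp [mul_assoc]) }
  have hinj : Function.Injective cj := fun a c e =>
    Subtype.ext (Subtype.ext (mul_left_cancel (mul_right_cancel (congrArg Subtype.val e))))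
  have hinj' := Q'.subtype_injective
  have key : ∀ R : Subgroup ↥(Bm S), Cfsg.IsMinimalCentrallyLarge R →
      Nat.card ↥(Cfsg.omegaOneCenter p R) = Cfsg.maxOmegaCenterOfMinimalCL p ↥(Bm S) →
      ((frattini ↥R).map R.subtype).map ((MulAut.conj g).toMonoidHom.comp (Bm S).subtype) ≤
        (Cfsg.frattiniOfMinimalCLJoin p ↥(Bm S)).map (Bm S).subtype := by
    intro R hR hmax
    obtain ⟨h1, h2, -, -, -⟩ := hr.replace hP hR
    obtain ⟨h3, h4⟩ := hr.replace_omega hP hR hmax
    set X := (Vm p G).subgroupOf (Bm S) ⊔ (R ⊓ Q') with hX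
    set Y := (X.subgroupOf Q').map cj with hY
    have hXX : (X.subgroupOf Q').map Q'.subtype = X := by
      rw [subgroupOf_map_subtype, inf_eq_left.mpr h2]
    have c1 : Nat.card Y = Nat.card X := by
      conv_rhs => rw [← hXX]
      rw [hY, card_map_of_injective hinj, card_map_of_injective hinj']
    have c2 : Nat.card (center ↥Y) = Nat.card (center ↥X) := by
      conv_rhs => rw [← hXX]
      rw [hY, H46.PushUp.center_card_map _ hinj, H46.PushUp.center_card_map _ hinj']
    have hcl : Cfsg.IsCentrallyLarge Y := by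
      show _ * _ = _
      rw [c1, c2]
      exact h1.1
    have hYm := H46.PushUp.isMCL_of_card hP hcl h1 c1.le
    have hYo : Nat.card ↥(Cfsg.omegaOneCenter p Y) = Cfsg.maxOmegaCenterOfMinimalCL p ↥(Bm S) := by
      rw [← h3]
      conv_rhs => rw [← hXX]
      rw [hY, H46.PushUp.omega_map _ hinj, H46.PushUp.omega_map _ hinj', card_map_of_injective hinj,
        card_map_of_injective hinj']
    refine le_trans (le_of_eq ?_) (Subgroup.map_mono (le_iSup _
      (⟨Y, hYm, hYo⟩ : {Z : Subgroup ↥(Bm S) // _})))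
    rw [H46.PushUp.frattini_map hP, H46.PushUp.frattini_map hP, ← h4, H46.PushUp.phi_map,
      H46.PushUp.phi_map]
    congr 1
    ext y
    constructor
    · rintro ⟨z, hz, rfl⟩
      exact ⟨_, ⟨⟨z, h2 hz⟩, hz, rfl⟩, rfl⟩
    · rintro ⟨_, ⟨q, hq, rfl⟩, rfl⟩
      exact ⟨q, hq, rfl⟩
  have hle : ((Cfsg.frattiniOfMinimalCLJoin p ↥(Bm S)).map (Bm S).subtype).map (MulAut.conj g).toMonoidHom ≤
      (Cfsg.frattiniOfMinimalCLJoin p ↥(Bm S)).map (Bm S).subtype := by
    rw [Subgroup.map_map]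
    conv_lhs => rw [Cfsg.frattiniOfMinimalCLJoin, Subgroup.map_iSup]
    exact iSup_le fun R => key R.1 R.2.1 R.2.2
  exact hle ⟨x, hx, rfl⟩

/-- If the join is trivial, the measure in `B(S)` is at most that of an elementary abelian subgroup. -/
theorem meas_le_of_join_bot (hbot : Cfsg.frattiniOfMinimalCLJoin p ↥(Bm S) = ⊥) {A : Subgroup G}
    (hA : H31.MaxIn p (S : Subgroup G) A) {X : Subgroup G} (hX : X ≤ Qm S) :
    Nat.card X * Nat.card (Qm S ⊓ centralizer (X : Set G) : Subgroup G) ≤ Nat.card A * Nat.card A := by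
  have hP := Bm_isPGroup h b
  obtain ⟨R, hR, hmax⟩ : ∃ R : Subgroup ↥(Bm S), Cfsg.IsMinimalCentrallyLarge R ∧
      Nat.card ↥(Cfsg.omegaOneCenter p R) = Cfsg.maxOmegaCenterOfMinimalCL p ↥(Bm S) := by
    refine Nat.sSup_mem (s := {k : ℕ | ∃ Q : Subgroup ↥(Bm S), Cfsg.IsMinimalCentrallyLarge Q ∧
      Nat.card ↥(Cfsg.omegaOneCenter p Q) = k}) ?_
      ((Set.finite_range fun Q : Subgroup ↥(Bm S) => Nat.card ↥(Cfsg.omegaOneCenter p Q)).subset
        (by rintro k ⟨Q, -, rfl⟩; exact ⟨Q, rfl⟩)).bddAbove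
    obtain ⟨Q, hQ⟩ := H62.exists_minimal_cl (G := ↥(Bm S))
    exact ⟨_, Q, hQ, rfl⟩
  have hphi : H46.PushUp.phi p R = ⊥ := by
    rw [← H46.PushUp.frattini_map hP]
    exact le_bot_iff.mp (hbot ▸ le_iSup (fun Q : {Q : Subgroup ↥(Bm S) // Cfsg.IsMinimalCentrallyLarge Q ∧
      Nat.card ↥(Cfsg.omegaOneCenter p Q) = Cfsg.maxOmegaCenterOfMinimalCL p ↥(Bm S)} =>
      (frattini ↥(Q : Subgroup ↥(Bm S))).map (Q : Subgroup ↥(Bm S)).subtype) ⟨R, hR, hmax⟩)
  have hcomm : ∀ x ∈ R, ∀ y ∈ R, x * y = y * x := fun x hx y hy => by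
    have h1 : ⁅x, y⁆ ∈ H46.PushUp.phi p R := subset_closure (Or.inl ⟨x, hx, y, hy, rfl⟩)
    rw [hphi, mem_bot] at h1
    exact commutatorElement_eq_one_iff_commute.mp h1
  have hpow : ∀ x ∈ R, x ^ p = 1 := fun x hx => by
    have h1 : x ^ p ∈ H46.PushUp.phi p R := subset_closure (Or.inr ⟨x, hx, rfl⟩)
    rwa [hphi, mem_bot] at h1
  obtain ⟨hRl, hRc⟩ := H62.cl_iff.mp hR.1
  have hcc : H62.cc R = R := le_antisymm hRc fun x hx r hr => hcomm r hr x hx
  have hRA : Nat.card R ≤ Nat.card A := by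
    rw [← card_map_of_injective (K := R) (Bm S).subtype_injective]
    exact hA.2.2 _ ((map_subtype_le R).trans inf_le_left)
      ((H31.elem_map_iff (Bm S).subtype_injective).mpr (H31.elem_mk hcomm hpow))
  have hXB : X ≤ Bm S := hX.trans (h.Qm_le_Bm b)
  have hC : Nat.card (Qm S ⊓ centralizer (X : Set G) : Subgroup G) ≤
      Nat.card (H62.cc (X.subgroupOf (Bm S))) := by
    rw [← card_map_of_injective (K := H62.cc (X.subgroupOf (Bm S))) (Bm S).subtype_injective]
    refine Subgroup.card_le_of_le fun y hy => ⟨⟨y, h.Qm_le_Bm b hy.1⟩, fun r hr => Subtype.ext ?_, rfl⟩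
    exact hy.2 r (mem_subgroupOf.mp hr)
  calc Nat.card X * Nat.card (Qm S ⊓ centralizer (X : Set G) : Subgroup G)
      ≤ Nat.card (X.subgroupOf (Bm S)) * Nat.card (H62.cc (X.subgroupOf (Bm S))) := by
        rw [Nat.card_congr (subgroupOfEquivOfLe hXB).toEquiv]
        exact Nat.mul_le_mul_left _ hC
    _ ≤ Cfsg.maxCentralizerProduct ↥(Bm S) := H62.meas_le _
    _ = Nat.card R * Nat.card (H62.cc R) := hRl.symm
    _ ≤ Nat.card A * Nat.card A := by rw [hcc]; exact Nat.mul_le_mul hRA hRA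

end Cfsg.Agent.H42.TwoNorm
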