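import Mathlib

/-!
A module which is the sum of the fixed points of two unipotent subgroups `A` and `A'` exchanged by
elements `n = a⁻¹ l a⁻¹` has quadratic action of `A` on all its irreducible pieces.
-/

set_option autoImplicit false
set_option linter.unusedSectionVars false
set_option linter.style.haveILetI false

namespace Cfsg.Agent.H42.TwoNorm.Layer

open Subgroup

variable {L M : Type*} [Group L] [AddCommGroup M] [DistribMulAction L M]

/-- An invariant subgroup. -/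
def Inv (R : AddSubgroup M) : Prop := ∀ g : L, ∀ x ∈ R, g • x ∈ R

/-- The elements fixed by `A` modulo `R`. -/
def Fix (A : Subgroup L) (R : AddSubgroup M) : AddSubgroup M where
  carrier := {x | ∀ a ∈ A, a • x - x ∈ R}
  zero_mem' := fun a _ => by simp
  add_mem' := fun {x y} hx hy a ha => by
    rw [smul_add, add_sub_add_comm]; exact add_mem (hx a ha) (hy a ha)
  neg_mem' := fun {x} hx a ha => by
    rw [smul_neg, ← neg_sub']; exact neg_mem (hx a ha)

theorem mem_Fix {A : Subgroup L} {R : AddSubgroup M} {x : M} :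
    x ∈ Fix A R ↔ ∀ a ∈ A, a • x - x ∈ R := Iff.rfl

theorem Fix_mono {A : Subgroup L} {R R' : AddSubgroup M} (h : R ≤ R') : Fix A R ≤ Fix A R' :=
  fun _ hx a ha => h (hx a ha)

theorem fix_sup {A B : Subgroup L} {R : AddSubgroup M} (hR : Inv (L := L) R) {x : M}
    (hA : x ∈ Fix A R) (hB : x ∈ Fix B R) {g : L} (hg : g ∈ A ⊔ B) : g • x - x ∈ R := by
  let St : Subgroup L :=
    { carrier := {g | g • x - x ∈ R}
      one_mem' := by simp
      mul_mem' := fun {a b} ha hb => by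
        show (a * b) • x - x ∈ R
        have := add_mem (hR a _ hb) ha
        rwa [smul_sub, sub_add_sub_cancel, ← mul_smul] at this
      inv_mem' := fun {a} ha => by
        show a⁻¹ • x - x ∈ R
        have := neg_mem (hR a⁻¹ _ ha)
        rwa [smul_sub, neg_sub, inv_smul_smul] at this }
  exact (sup_le (fun a ha => hA a ha) (fun b hb => hB b hb) : A ⊔ B ≤ St) hg

/-- A `p`-group acting on a nonzero `p`-section fixes a nonzero element. -/
theorem exists_fixed [Finite M] {p : ℕ} [Fact p.Prime] {A : Subgroup L} [Finite A] (hA : IsPGroup p A)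
    (hM : ∀ x : M, ∃ k, p ^ k • x = 0) {Y Z : AddSubgroup M}
    (hY : ∀ a ∈ A, ∀ x ∈ Y, a • x ∈ Y) (hZ : ∀ a ∈ A, ∀ x ∈ Z, a • x ∈ Z) (h : ¬ Z ≤ Y) :
    ∃ x ∈ Z, x ∉ Y ∧ x ∈ Fix A Y := by
  letI : MulAction A (Z ⧸ Y.addSubgroupOf Z) :=
    { smul := fun a => Quotient.map (fun z => ⟨(a : L) • (z : M), hZ a a.2 z z.2⟩) fun u v huv => by
        show QuotientAddGroup.leftRel _ _ _
        replace huv : QuotientAddGroup.leftRel _ u v := huv
        rw [QuotientAddGroup.leftRel_apply, AddSubgroup.mem_addSubgroupOf] at huv ⊢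
        have := hY a a.2 _ huv
        simp only [AddSubgroup.coe_add, AddSubgroup.coe_neg, smul_add, smul_neg] at this ⊢
        exact this
      one_smul := fun q => by
        refine Quotient.inductionOn q fun z => congrArg Quotient.mk'' (Subtype.ext ?_)
        exact one_smul L (z : M)
      mul_smul := fun a b q => by
        refine Quotient.inductionOn q fun z => congrArg Quotient.mk'' (Subtype.ext ?_)
        exact mul_smul (a : L) (b : L) (z : M) }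
  have hsmul : ∀ (a : A) (z : Z), a • (QuotientAddGroup.mk z : Z ⧸ Y.addSubgroupOf Z) =
      QuotientAddGroup.mk ⟨(a : L) • (z : M), hZ a a.2 z z.2⟩ := fun _ _ => rfl
  haveI : Nontrivial (Z ⧸ Y.addSubgroupOf Z) := by
    obtain ⟨z, hz, hzY⟩ := SetLike.not_le_iff_exists.mp h
    refine ⟨QuotientAddGroup.mk ⟨z, hz⟩, 0, fun e => hzY ?_⟩
    exact AddSubgroup.mem_addSubgroupOf.mp ((QuotientAddGroup.eq_zero_iff _).mp e)
  have hdvd : p ∣ Nat.card (Z ⧸ Y.addSubgroupOf Z) := by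
    by_contra hn
    obtain ⟨q, hq⟩ := exists_ne (0 : Z ⧸ Y.addSubgroupOf Z)
    obtain ⟨z, rfl⟩ := QuotientAddGroup.mk_surjective q
    obtain ⟨k, hk⟩ := hM z
    refine hq (AddMonoid.addOrderOf_eq_one_iff.mp (Nat.eq_one_of_dvd_coprimes
      (((Fact.out : p.Prime).coprime_iff_not_dvd.mpr hn).pow_left k) ?_ (addOrderOf_dvd_natCard _)))
    refine addOrderOf_dvd_of_nsmul_eq_zero ?_
    rw [← QuotientAddGroup.mk_nsmul, show p ^ k • z = 0 from Subtype.ext (by simpa using hk)]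
    rfl
  have h0 : (0 : Z ⧸ Y.addSubgroupOf Z) ∈ MulAction.fixedPoints A (Z ⧸ Y.addSubgroupOf Z) := fun a => by
    show a • (QuotientAddGroup.mk (0 : Z) : Z ⧸ Y.addSubgroupOf Z) = _
    rw [hsmul]
    exact congrArg _ (Subtype.ext (smul_zero _))
  obtain ⟨q, hqf, hq⟩ := hA.exists_fixed_point_of_prime_dvd_card_of_fixed_point _ hdvd h0
  obtain ⟨z, rfl⟩ := QuotientAddGroup.mk_surjective q
  refine ⟨z, z.2, fun hzY => hq ((QuotientAddGroup.eq_zero_iff _).mpr (AddSubgroup.mem_addSubgroupOf.mpr hzY)).symm,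
    fun a ha => ?_⟩
  have h1 := hqf ⟨a, ha⟩
  rw [hsmul, QuotientAddGroup.eq, AddSubgroup.mem_addSubgroupOf] at h1
  simp only [AddSubgroup.coe_add, AddSubgroup.coe_neg] at h1
  have := neg_mem h1
  rwa [neg_add_rev, neg_neg, ← sub_eq_neg_add] at this

/-- `n` exchanges `A` and `A'` modulo `Kk`. -/
def Swaps (A A' Kk : Subgroup L) (n : L) : Prop :=
  (∀ a ∈ A, n⁻¹ * a * n ∈ A' ⊔ Kk) ∧ ∀ l ∈ A', n⁻¹ * l * n ∈ A ⊔ Kk

variable {A A' Kk : Subgroup L}

theorem swaps_fix {n : L} (hn : Swaps A A' Kk n) {R : AddSubgroup M} (hR : Inv (L := L) R) {x : M}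
    (hk : x ∈ Fix Kk R) : (x ∈ Fix A R → n • x ∈ Fix A' R) ∧ (x ∈ Fix A' R → n • x ∈ Fix A R) := by
  have key : ∀ (g : L), (n⁻¹ * g * n) • x - x ∈ R → g • (n • x) - n • x ∈ R := fun g hg => by
    have := hR n _ hg
    rwa [smul_sub, ← mul_smul, show n * (n⁻¹ * g * n) = g * n by group, mul_smul] at this
  exact ⟨fun h l hl => key l (fix_sup hR h hk (hn.2 l hl)), fun h a ha => key a (fix_sup hR h hk (hn.1 a ha))⟩

/-- The data: every element of `A` is a product of two paired ones, and symmetrically. -/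
structure Cover (A A' Kk : Subgroup L) : Prop where
  gen : A ⊔ A' = ⊤
  left : ∀ a ∈ A, ∃ a₁ ∈ A, ∃ a₂ ∈ A, a = a₁ * a₂ ∧
    (∃ l ∈ A', Swaps A A' Kk (a₁⁻¹ * l * a₁⁻¹)) ∧ ∃ l ∈ A', Swaps A A' Kk (a₂⁻¹ * l * a₂⁻¹)
  right : ∀ l ∈ A', ∃ l₁ ∈ A', ∃ l₂ ∈ A', l = l₁ * l₂ ∧
    (∃ a ∈ A, Swaps A A' Kk (a⁻¹ * l₁ * a⁻¹)) ∧ ∃ a ∈ A, Swaps A A' Kk (a⁻¹ * l₂ * a⁻¹)

set_option maxHeartbeats 800000 in
/-- A nonzero quadratic invariant piece. -/
theorem exists_piece [Finite M] {p : ℕ} [Fact p.Prime] [Finite A] [Finite A'] (hA : IsPGroup p A)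
    (hA' : IsPGroup p A') (hM : ∀ x : M, ∃ k, p ^ k • x = 0) (hc : Cover A A' Kk)
    {R Z : AddSubgroup M} (hR : Inv (L := L) R) (hZ : Inv (L := L) Z) (hRZ : R < Z)
    (hKk : Z ≤ Fix Kk R) (hsum : Z ≤ (Z ⊓ Fix A R) ⊔ (Z ⊓ Fix A' R)) :
    ∃ M0 : AddSubgroup M, Inv (L := L) M0 ∧ R < M0 ∧ M0 ≤ Z ∧
      ∀ x ∈ M0, ∀ a ∈ A, a • x - x ∈ Fix A R := by
  set X := Z ⊓ Fix A R with hX
  set Y := Z ⊓ Fix A' R with hY
  set X0 := X ⊓ Fix A' Y with hX0
  set Y0 := Y ⊓ Fix A X with hY0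
  have hRY : ∀ a : L, ∀ x ∈ Z, a • x - x ∈ R → ∀ B : Subgroup L, a • x - x ∈ Z ⊓ Fix B R := fun a x hx h B =>
    ⟨AddSubgroup.sub_mem Z (hZ a x hx) hx, fun b hb => sub_mem (hR b _ h) h⟩
  have hXY0 : ∀ x ∈ X, x ∈ Y → x ∈ X0 ∧ x ∈ Y0 := fun x hx hy =>
    ⟨⟨hx, fun l hl => hRY l x hx.1 (hy.2 l hl) A'⟩, ⟨hy, fun a ha => hRY a x hx.1 (hx.2 a ha) A⟩⟩
  -- the exchanging elements
  have swapX : ∀ n, Swaps A A' Kk n → ∀ x ∈ X, n • x ∈ Y := fun n hn x hx =>
    ⟨hZ n x hx.1, (swaps_fix hn hR (hKk hx.1)).1 hx.2⟩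
  have swapY : ∀ n, Swaps A A' Kk n → ∀ y ∈ Y, n • y ∈ X := fun n hn y hy =>
    ⟨hZ n y hy.1, (swaps_fix hn hR (hKk hy.1)).2 hy.2⟩
  have key : ∀ (n g : L) (x : M), g • (n • x) - n • x = n • ((n⁻¹ * g * n) • x - x) := fun n g x => by
    rw [smul_sub, ← mul_smul g n x, ← mul_smul n (n⁻¹ * g * n) x, show n * (n⁻¹ * g * n) = g * n by group]
  have hKW : ∀ B : Subgroup L, ∀ k ∈ Kk, ∀ z ∈ Z, k • z - z ∈ Z ⊓ Fix B R := fun B k hk z hz =>
    hRY k z hz (hKk hz k hk) B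
  have stabX : ∀ (B : Subgroup L) (W : AddSubgroup M) (x : M), (∀ g : L, g ∈ B → g • x - x ∈ W) →
      (∀ g : L, g ∈ Kk → g • x - x ∈ W) → (∀ g ∈ B ⊔ Kk, ∀ w ∈ W, g • w ∈ W) →
      ∀ g ∈ B ⊔ Kk, g • x - x ∈ W := by
    intro B W x h1 h2 h3 g hg
    let St : Subgroup L :=
      { carrier := {g | g ∈ B ⊔ Kk ∧ g • x - x ∈ W}
        one_mem' := ⟨one_mem _, by simp⟩
        mul_mem' := fun {a b} ha hb => ⟨mul_mem ha.1 hb.1, by
          have := add_mem (h3 a ha.1 _ hb.2) ha.2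
          rwa [smul_sub, sub_add_sub_cancel, ← mul_smul] at this⟩
        inv_mem' := fun {a} ha => ⟨inv_mem ha.1, by
          have := neg_mem (h3 a⁻¹ (inv_mem ha.1) _ ha.2)
          rwa [smul_sub, neg_sub, inv_smul_smul] at this⟩ }
    exact ((sup_le (fun a ha => ⟨mem_sup_left ha, h1 a ha⟩) (fun k hk => ⟨mem_sup_right hk, h2 k hk⟩) :
      B ⊔ Kk ≤ St) hg).2
  have invW : ∀ B : Subgroup L, ∀ g ∈ B ⊔ Kk, ∀ w ∈ Z ⊓ Fix B R, g • w ∈ Z ⊓ Fix B R := by
    intro B g hg w hw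
    have := fix_sup hR hw.2 (hKk hw.1) hg
    have e : g • w = w + (g • w - w) := by abel
    rw [e]
    exact add_mem hw (hRY g w hw.1 this B)
  have swap0X : ∀ n, Swaps A A' Kk n → ∀ x ∈ X0, n • x ∈ Y0 := by
    intro n hn x hx
    refine ⟨swapX n hn x hx.1, fun a ha => ?_⟩
    rw [key n a x]
    exact swapY n hn _ (stabX A' Y x hx.2 (fun k hk => hKW A' k hk x hx.1.1) (invW A') _ (hn.1 a ha))
  have swap0Y : ∀ n, Swaps A A' Kk n → ∀ y ∈ Y0, n • y ∈ X0 := by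
    intro n hn y hy
    refine ⟨swapY n hn y hy.1, fun l hl => ?_⟩
    rw [key n l y]
    exact swapX n hn _ (stabX A X y hy.2 (fun k hk => hKW A k hk y hy.1.1) (invW A) _ (hn.2 l hl))
  have onto : ∀ n, Swaps A A' Kk n → ∀ y ∈ Y0, ∃ x ∈ X0, n • x = y := by
    intro n hn y hy
    let f : X0 → Y0 := fun x => ⟨n • (x : M), swap0X n hn x x.2⟩
    let g : Y0 → X0 := fun y => ⟨n • (y : M), swap0Y n hn y y.2⟩
    have hf : Function.Injective f := fun u v e =>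
      Subtype.ext (MulAction.injective n (congrArg Subtype.val e))
    have hg : Function.Injective g := fun u v e =>
      Subtype.ext (MulAction.injective n (congrArg Subtype.val e))
    have hbij : Function.Bijective f := (Nat.bijective_iff_injective_and_card f).mpr
      ⟨hf, le_antisymm (Nat.card_le_card_of_injective f hf) (Nat.card_le_card_of_injective g hg)⟩
    obtain ⟨x, hx⟩ := hbij.2 ⟨y, hy⟩
    exact ⟨x, x.2, congrArg Subtype.val hx⟩
  -- the paired elements map `Y0` into `X0` and `X0` into `Y0`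
  have pairA : ∀ a ∈ A, ∀ l ∈ A', Swaps A A' Kk (a⁻¹ * l * a⁻¹) → ∀ y ∈ Y0, a • y - y ∈ X0 := by
    intro a ha l hl hn y hy
    obtain ⟨x, hx, e⟩ := onto _ hn y hy
    have hf : a • y - y ∈ X := hy.2 a ha
    have hax : a • x - x ∈ R := hx.1.2 a ha
    have hlx : l • x - x ∈ Y := hx.2 l hl
    -- `l x ≡ a y`
    have h1 : a • y - l • x ∈ R := by
      rw [← e, ← mul_smul, show a * (a⁻¹ * l * a⁻¹) = l * a⁻¹ by group, mul_smul, ← smul_sub]
      have h := hR l _ (hR a⁻¹ _ (neg_mem hax))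
      rwa [neg_sub, smul_sub a⁻¹, inv_smul_smul] at h
    have hd : (a • y - y) - x ∈ X ∧ (a • y - y) - x ∈ Y := by
      refine ⟨sub_mem hf hx.1, ?_⟩
      have e2 : (a • y - y) - x = (a • y - l • x) + (l • x - x) - y := by abel
      rw [e2]
      exact sub_mem (add_mem ⟨AddSubgroup.sub_mem Z (hZ a y hy.1.1) (hZ l x hx.1.1),
        fun b hb => sub_mem (hR b _ h1) h1⟩ hlx) hy.1
    have := add_mem (hXY0 _ hd.1 hd.2).1 hx
    rwa [sub_add_cancel] at this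
  have pairL : ∀ a ∈ A, ∀ l ∈ A', Swaps A A' Kk (a⁻¹ * l * a⁻¹) → ∀ x ∈ X0, l • x - x ∈ Y0 := by
    intro a ha l hl hn x hx
    set y := (a⁻¹ * l * a⁻¹) • x with hy'
    have hy : y ∈ Y0 := swap0X _ hn x hx
    have hax : a • x - x ∈ R := hx.1.2 a ha
    have h1 : a • y - l • x ∈ R := by
      rw [hy', ← mul_smul, show a * (a⁻¹ * l * a⁻¹) = l * a⁻¹ by group, mul_smul, ← smul_sub]
      have h := hR l _ (hR a⁻¹ _ (neg_mem hax))
      rwa [neg_sub, smul_sub a⁻¹, inv_smul_smul] at h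
    have hlx : l • x - x ∈ Y := hx.2 l hl
    have hd : (l • x - x) - y ∈ X ∧ (l • x - x) - y ∈ Y := by
      refine ⟨?_, sub_mem hlx hy.1⟩
      have e2 : (l • x - x) - y = (a • y - y) - x - (a • y - l • x) := by abel
      rw [e2]
      exact sub_mem (sub_mem (hy.2 a ha) hx.1) ⟨AddSubgroup.sub_mem Z (hZ a y hy.1.1) (hZ l x hx.1.1),
        fun b hb => sub_mem (hR b _ h1) h1⟩
    have := add_mem (hXY0 _ hd.1 hd.2).2 hy
    rwa [sub_add_cancel] at this
  have allA : ∀ a ∈ A, ∀ y ∈ Y0, a • y - y ∈ X0 := by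
    intro a ha y hy
    obtain ⟨a₁, h₁, a₂, h₂, rfl, ⟨l₁, hl₁, hn₁⟩, l₂, hl₂, hn₂⟩ := hc.left a ha
    have d2 := pairA a₂ h₂ l₂ hl₂ hn₂ y hy
    have d1 := pairA a₁ h₁ l₁ hl₁ hn₁ y hy
    have hr : a₁ • (a₂ • y - y) - (a₂ • y - y) ∈ R := d2.1.2 a₁ h₁
    have hr' : a₁ • (a₂ • y - y) - (a₂ • y - y) ∈ X0 :=
      (hXY0 _ (hRY a₁ _ d2.1.1 hr A) (hRY a₁ _ d2.1.1 hr A')).1
    have e : (a₁ * a₂) • y - y = (a₁ • (a₂ • y - y) - (a₂ • y - y)) + (a₂ • y - y) + (a₁ • y - y) := by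
      rw [mul_smul, smul_sub]; abel
    rw [e]
    exact add_mem (add_mem hr' d2) d1
  have allL : ∀ l ∈ A', ∀ x ∈ X0, l • x - x ∈ Y0 := by
    intro l hl x hx
    obtain ⟨l₁, h₁, l₂, h₂, rfl, ⟨a₁, ha₁, hn₁⟩, a₂, ha₂, hn₂⟩ := hc.right l hl
    have d2 := pairL a₂ ha₂ l₂ h₂ hn₂ x hx
    have d1 := pairL a₁ ha₁ l₁ h₁ hn₁ x hx
    have hr : l₁ • (l₂ • x - x) - (l₂ • x - x) ∈ R := d2.1.2 l₁ h₁
    have hr' : l₁ • (l₂ • x - x) - (l₂ • x - x) ∈ Y0 :=
      (hXY0 _ (hRY l₁ _ d2.1.1 hr A) (hRY l₁ _ d2.1.1 hr A')).2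
    have e : (l₁ * l₂) • x - x = (l₁ • (l₂ • x - x) - (l₂ • x - x)) + (l₂ • x - x) + (l₁ • x - x) := by
      rw [mul_smul, smul_sub]; abel
    rw [e]
    exact add_mem (add_mem hr' d2) d1
  have hRX : R ≤ X := fun r hr => ⟨hRZ.le hr, fun a _ => sub_mem (hR a r hr) hr⟩
  have hRY' : R ≤ Y := fun r hr => ⟨hRZ.le hr, fun a _ => sub_mem (hR a r hr) hr⟩
  refine ⟨X0 ⊔ Y0, fun g x hx => ?_, ?_, sup_le (inf_le_left.trans inf_le_left) (inf_le_left.trans inf_le_left),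
    fun x hx a ha => ?_⟩
  · let St : Subgroup L :=
      { carrier := {g | (∀ x ∈ X0 ⊔ Y0, g • x ∈ X0 ⊔ Y0) ∧ ∀ x ∈ X0 ⊔ Y0, g⁻¹ • x ∈ X0 ⊔ Y0}
        one_mem' := ⟨fun x hx => by rwa [one_smul], fun x hx => by rwa [inv_one, one_smul]⟩
        mul_mem' := fun {a b} ha hb => ⟨fun x hx => by rw [mul_smul]; exact ha.1 _ (hb.1 x hx),
          fun x hx => by rw [_root_.mul_inv_rev, mul_smul]; exact hb.2 _ (ha.2 x hx)⟩
        inv_mem' := fun {a} ha => ⟨ha.2, fun x hx => by rw [inv_inv]; exact ha.1 x hx⟩ }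
    have hA0 : ∀ a ∈ A, ∀ x ∈ X0 ⊔ Y0, a • x ∈ X0 ⊔ Y0 := by
      intro a ha x hx
      obtain ⟨u, hu, v, hv, rfl⟩ := AddSubgroup.mem_sup.mp hx
      have h1 : a • u - u ∈ X0 := (hXY0 _ (hRY a u hu.1.1 (hu.1.2 a ha) A) (hRY a u hu.1.1 (hu.1.2 a ha) A')).1
      have e : a • (u + v) = (a • u - u) + (a • v - v) + (u + v) := by rw [smul_add]; abel
      rw [e]
      exact add_mem (add_mem (AddSubgroup.mem_sup_left h1) (AddSubgroup.mem_sup_left (allA a ha v hv))) hx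
    have hL0 : ∀ l ∈ A', ∀ x ∈ X0 ⊔ Y0, l • x ∈ X0 ⊔ Y0 := by
      intro l hl x hx
      obtain ⟨u, hu, v, hv, rfl⟩ := AddSubgroup.mem_sup.mp hx
      have h1 : l • v - v ∈ Y0 := (hXY0 _ (hRY l v hv.1.1 (hv.1.2 l hl) A) (hRY l v hv.1.1 (hv.1.2 l hl) A')).2
      have e : l • (u + v) = (l • u - u) + (l • v - v) + (u + v) := by rw [smul_add]; abel
      rw [e]
      exact add_mem (add_mem (AddSubgroup.mem_sup_right (allL l hl u hu)) (AddSubgroup.mem_sup_right h1)) hx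
    have hle : A ⊔ A' ≤ St := sup_le (fun a ha => ⟨hA0 a ha, hA0 a⁻¹ (inv_mem ha)⟩)
      fun a ha => ⟨hL0 a ha, hL0 a⁻¹ (inv_mem ha)⟩
    exact (hle (hc.gen ▸ mem_top g)).1 x hx
  · have hRX0 : R ≤ X0 := fun r hr => (hXY0 r (hRX hr) (hRY' hr)).1
    refine lt_of_le_of_ne (hRX0.trans le_sup_left) fun e => ?_
    -- an element of `X0` outside `R`
    by_cases hZY : Z ≤ Y
    · obtain ⟨x, hx, hxR, hxf⟩ := exists_fixed hA hM (Y := R) (Z := Z) (fun a _ x hx => hR a x hx)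
        (fun a _ x hx => hZ a x hx) hRZ.not_ge
      exact hxR (e ▸ AddSubgroup.mem_sup_left (hXY0 x ⟨hx, hxf⟩ (hZY hx)).1)
    · obtain ⟨x, hx, hxY, hxf⟩ := exists_fixed hA' hM (Y := Y) (Z := Z)
        (fun a ha x hx => invW A' a (mem_sup_left ha) x hx) (fun a _ x hx => hZ a x hx) hZY
      obtain ⟨u, hu, v, hv, rfl⟩ := AddSubgroup.mem_sup.mp (hsum hx)
      have hu0 : u ∈ X0 := ⟨hu, fun l hl => by
        have h1 := sub_mem (hxf l hl) (hRY l v hv.1 (hv.2 l hl) A')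
        have e' : l • (u + v) - (u + v) - (l • v - v) = l • u - u := by rw [smul_add]; abel
        rwa [e'] at h1⟩
      exact hxY (add_mem (hRY' (e ▸ AddSubgroup.mem_sup_left hu0)) hv)
  · obtain ⟨u, hu, v, hv, rfl⟩ := AddSubgroup.mem_sup.mp hx
    have e : a • (u + v) - (u + v) = (a • u - u) + (a • v - v) := by rw [smul_add]; abel
    rw [e]
    exact add_mem (hRY a u hu.1.1 (hu.1.2 a ha) A).2 (allA a ha v hv).1.2

/-- An irreducible invariant section centralised by `Kk`. -/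
structure Sec (Kk : Subgroup L) (N K : AddSubgroup M) : Prop where
  le : N ≤ K
  invN : Inv (L := L) N
  invK : Inv (L := L) K
  min : ∀ N' : AddSubgroup M, N ≤ N' → N' ≤ K → Inv (L := L) N' → N' = N ∨ N' = K
  triv : K ≤ Fix Kk N

theorem inv_sup {X Y : AddSubgroup M} (hX : Inv (L := L) X) (hY : Inv (L := L) Y) :
    Inv (L := L) (X ⊔ Y) := by
  intro g x hx
  obtain ⟨u, hu, v, hv, rfl⟩ := AddSubgroup.mem_sup.mp hx
  rw [smul_add]
  exact AddSubgroup.add_mem_sup (hX g u hu) (hY g v hv)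

theorem inv_inf {X Y : AddSubgroup M} (hX : Inv (L := L) X) (hY : Inv (L := L) Y) :
    Inv (L := L) (X ⊓ Y) := fun g x hx => ⟨hX g x hx.1, hY g x hx.2⟩

theorem quad_core [Finite M] {p : ℕ} [Fact p.Prime] [Finite A] [Finite A'] (hA : IsPGroup p A)
    (hA' : IsPGroup p A') (hM : ∀ x : M, ∃ k, p ^ k • x = 0) (hc : Cover A A' Kk)
    {Z : AddSubgroup M} (hZ : Inv (L := L) Z) :
    ∀ R : AddSubgroup M, Inv (L := L) R → R ≤ Z → Z ≤ Fix Kk R →
      Z ≤ (Z ⊓ Fix A R) ⊔ (Z ⊓ Fix A' R) → ∀ N K : AddSubgroup M, R ≤ N → K ≤ Z → Sec Kk N K →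
        ∀ x ∈ K, ∀ a ∈ A, a • x - x ∈ Fix A N := by
  intro R
  induction hn : Nat.card Z - Nat.card R using Nat.strong_induction_on generalizing R with
  | _ n ih =>
    intro hR hRZ hKk hsum N K hN hK hs x hx a ha
    rcases hRZ.lt_or_eq with hlt | rfl
    swap
    · exact fun b _ => sub_mem (hs.invN b _ (sub_mem (hs.invN a x (hN (hK hx))) (hN (hK hx))))
        (sub_mem (hs.invN a x (hN (hK hx))) (hN (hK hx)))
    obtain ⟨M0, hM0i, hRM, hMZ, hq⟩ := exists_piece hA hA' hM hc hR hZ hlt hKk hsum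
    rcases hs.min ((K ⊓ M0) ⊔ N) le_sup_right (sup_le inf_le_left hs.le)
        (inv_sup (inv_inf hs.invK hM0i) hs.invN) with e | e
    · have hKM : K ⊓ M0 ≤ N := le_sup_left.trans e.le
      have hsB : Sec Kk (N ⊔ M0) (K ⊔ M0) := by
        refine ⟨sup_le_sup_right hs.le M0, inv_sup hs.invN hM0i, inv_sup hs.invK hM0i,
          fun N' h1 h2 hi => ?_, ?_⟩
        · rcases hs.min (N' ⊓ K) (le_inf (le_sup_left.trans h1) hs.le) inf_le_right
              (inv_inf hi hs.invK) with e' | e'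
          · refine Or.inl (le_antisymm (fun y hy => ?_) h1)
            obtain ⟨k, hk, c, hc', rfl⟩ := AddSubgroup.mem_sup.mp (h2 hy)
            have hk' : k ∈ N' := by simpa using sub_mem hy (h1 (AddSubgroup.mem_sup_right hc'))
            exact AddSubgroup.add_mem_sup (e'.le ⟨hk', hk⟩) hc'
          · exact Or.inr (le_antisymm h2 (sup_le (e'.ge.trans inf_le_left) (le_sup_right.trans h1)))
        · intro y hy k hk
          obtain ⟨u, hu, v, hv, rfl⟩ := AddSubgroup.mem_sup.mp hy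
          rw [smul_add, add_sub_add_comm]
          exact AddSubgroup.add_mem_sup (hs.triv hu k hk) (sub_mem (hM0i k v hv) hv)
      have hcard : Nat.card Z - Nat.card M0 < n := by
        have h1 : Nat.card R < Nat.card M0 := Set.ncard_lt_ncard hRM (Set.toFinite _)
        have h2 : Nat.card M0 ≤ Nat.card Z := AddSubgroup.card_le_of_le hMZ
        omega
      have h' := ih _ hcard M0 rfl hM0i hMZ (hKk.trans (Fix_mono hRM.le))
        (hsum.trans (sup_le_sup (inf_le_inf_left Z (Fix_mono hRM.le)) (inf_le_inf_left Z (Fix_mono hRM.le))))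
        _ _ le_sup_right (sup_le hK hMZ) hsB x (AddSubgroup.mem_sup_left hx) a ha
      intro b hb
      obtain ⟨u, hu, v, hv, e'⟩ := AddSubgroup.mem_sup.mp (h' b hb)
      have hKmem : b • (a • x - x) - (a • x - x) ∈ K :=
        sub_mem (hs.invK b _ (sub_mem (hs.invK a x hx) hx)) (sub_mem (hs.invK a x hx) hx)
      rw [← e'] at hKmem ⊢
      exact add_mem hu (hKM ⟨by simpa using sub_mem hKmem (hs.le hu), hv⟩)
    · obtain ⟨u, hu, v, hv, rfl⟩ := AddSubgroup.mem_sup.mp (e.ge hx)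
      intro b hb
      have h1 : a • v - v ∈ N := sub_mem (hs.invN a v hv) hv
      have e' : b • (a • (u + v) - (u + v)) - (a • (u + v) - (u + v)) =
          (b • (a • u - u) - (a • u - u)) + (b • (a • v - v) - (a • v - v)) := by
        simp only [smul_add, smul_sub]; abel
      rw [e']
      exact add_mem (hN (hq u hu.2 a ha b hb)) (sub_mem (hs.invN b _ h1) h1)

open scoped Classical in
/-- The layer theorem. -/
theorem quad_layer [Finite M] {p : ℕ} [Fact p.Prime] [Finite A] [Finite A'] (hA : IsPGroup p A)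
    (hA' : IsPGroup p A') (hM : ∀ x : M, ∃ k, p ^ k • x = 0) (hc : Cover A A' Kk) (hKn : Kk.Normal)
    (hco : ¬ p ∣ Nat.card (Kk.map (MulAction.toPermHom L M)))
    (hsum : ∀ z : M, ∃ x y : M, z = x + y ∧ x ∈ Fix A ⊥ ∧ y ∈ Fix A' ⊥)
    {N K : AddSubgroup M} (hs : Sec Kk N K) {x : M} (hx : x ∈ K) {a : L} (ha : a ∈ A) :
    a • x - x ∈ Fix A N := by
  set ρ := MulAction.toPermHom L M with hρ
  set Kb := Kk.map ρ with hKb
  letI : Fintype Kb := Fintype.ofFinite _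
  set e := Fintype.card Kb with he
  let Nm : M →+ M := AddMonoidHom.mk' (fun z => ∑ σ : Kb, (σ : Equiv.Perm M) z) fun y z => by
    rw [← Finset.sum_add_distrib]
    refine Finset.sum_congr rfl fun σ _ => ?_
    obtain ⟨k, -, hk⟩ := σ.2
    rw [← hk]
    exact smul_add k y z
  have hNm : ∀ z, Nm z = ∑ σ : Kb, (σ : Equiv.Perm M) z := fun z => rfl
  set C := Fix Kk (⊥ : AddSubgroup M) with hC
  have hbot : Inv (L := L) (⊥ : AddSubgroup M) := fun g z hz => by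
    rw [AddSubgroup.mem_bot] at hz ⊢; rw [hz, smul_zero]
  have hCi : Inv (L := L) C := fun g z hz k hk => by
    have h1 := hz (g⁻¹ * k * g) (by simpa using hKn.conj_mem k hk g⁻¹)
    have := hbot g _ h1
    rwa [smul_sub, ← mul_smul, show g * (g⁻¹ * k * g) = k * g by group, mul_smul] at this
  have hNmC : ∀ z, Nm z ∈ C := fun z k hk => by
    rw [AddSubgroup.mem_bot, sub_eq_zero, hNm, Finset.smul_sum]
    exact Fintype.sum_equiv (Equiv.mulLeft (⟨ρ k, k, hk, rfl⟩ : Kb)) _ _ fun σ => rfl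
  have hNmg : ∀ (g : L) z, g • Nm z = Nm (g • z) := fun g z => by
    rw [hNm, hNm, Finset.smul_sum]
    have hc' : ∀ g : L, ∀ σ ∈ Kb, ρ g * σ * (ρ g)⁻¹ ∈ Kb := by
      rintro g _ ⟨k, hk, rfl⟩
      exact ⟨g * k * g⁻¹, hKn.conj_mem k hk g, by simp⟩
    let E : Kb ≃ Kb :=
      { toFun := fun σ => ⟨ρ g * σ * (ρ g)⁻¹, hc' g σ σ.2⟩
        invFun := fun σ => ⟨(ρ g)⁻¹ * σ * ρ g, by simpa using hc' g⁻¹ σ σ.2⟩
        left_inv := fun σ => Subtype.ext (by simp [mul_assoc])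
        right_inv := fun σ => Subtype.ext (by simp [mul_assoc]) }
    refine Fintype.sum_equiv E _ _ fun σ => ?_
    show g • (σ : Equiv.Perm M) z = g • ((σ : Equiv.Perm M) (g⁻¹ • (g • z)))
    rw [inv_smul_smul]
  have hcop : Nat.Coprime p e := (Fact.out : p.Prime).coprime_iff_not_dvd.mpr (by
    rw [he, ← Nat.card_eq_fintype_card]; exact hco)
  have hdiv : ∀ {W : AddSubgroup M} {z : M}, e • z ∈ W → z ∈ W := by
    intro W z hz
    obtain ⟨k, hk⟩ := hM z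
    obtain ⟨m, hm⟩ := exists_nsmul_eq_self_of_coprime (x := z) (n := e)
      (by
        refine (Nat.Coprime.coprime_dvd_right (addOrderOf_dvd_of_nsmul_eq_zero hk) ?_)
        exact (hcop.symm.pow_right k))
    rw [← hm]
    exact nsmul_mem hz m
  have hdec : ∀ z ∈ K, z ∈ (K ⊓ C) ⊔ N := by
    intro z hz
    refine hdiv ?_
    have h1 : Nm z - e • z ∈ N := by
      rw [hNm, he, ← Finset.card_univ, ← Finset.sum_const, ← Finset.sum_sub_distrib]
      refine sum_mem fun σ _ => ?_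
      obtain ⟨k, hk, hkσ⟩ := σ.2
      rw [← hkσ]
      exact hs.triv hz k hk
    have h2 : Nm z ∈ K := by
      have := add_mem (hs.le h1) (nsmul_mem hz e)
      rwa [sub_add_cancel] at this
    have := AddSubgroup.add_mem_sup (AddSubgroup.mem_inf.mpr ⟨h2, hNmC z⟩ : Nm z ∈ K ⊓ C) (neg_mem h1)
    rwa [neg_sub, add_sub_cancel] at this
  have hCsum : C ≤ (C ⊓ Fix A ⊥) ⊔ (C ⊓ Fix A' ⊥) := by
    intro z hz
    refine hdiv ?_
    obtain ⟨u, v, huv, hu, hv⟩ := hsum z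
    have h1 : Nm z = e • z := by
      rw [hNm, he, ← Finset.card_univ, ← Finset.sum_const]
      refine Finset.sum_congr rfl fun σ _ => ?_
      obtain ⟨k, hk, hkσ⟩ := σ.2
      rw [← hkσ]
      exact sub_eq_zero.mp (AddSubgroup.mem_bot.mp (hz k hk))
    have hfix : ∀ (B : Subgroup L) w, w ∈ Fix B ⊥ → Nm w ∈ Fix B ⊥ := fun B w hw b hb => by
      have := AddSubgroup.mem_bot.mp (hw b hb)
      rw [AddSubgroup.mem_bot, hNmg, ← map_sub, this, map_zero]
    rw [← h1, huv, map_add]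
    exact AddSubgroup.add_mem_sup ⟨hNmC u, hfix A u hu⟩ ⟨hNmC v, hfix A' v hv⟩
  have hsC : Sec Kk (N ⊓ C) (K ⊓ C) := by
    refine ⟨inf_le_inf_right C hs.le, inv_inf hs.invN hCi, inv_inf hs.invK hCi, fun N' h1 h2 hi => ?_,
      fun z hz k hk => ?_⟩
    · rcases hs.min (N' ⊔ N) le_sup_right (sup_le (h2.trans inf_le_left) hs.le) (inv_sup hi hs.invN) with e' | e'
      · exact Or.inl (le_antisymm (le_inf (le_sup_left.trans e'.le) (h2.trans inf_le_right)) h1)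
      · refine Or.inr (le_antisymm h2 fun z hz => ?_)
        obtain ⟨m, hm, n, hn, rfl⟩ := AddSubgroup.mem_sup.mp (e'.ge hz.1)
        refine add_mem hm (h1 ⟨hn, ?_⟩)
        simpa using C.sub_mem hz.2 (h2 hm).2
    · exact ⟨hs.triv hz.1 k hk, C.sub_mem (hCi k z hz.2) hz.2⟩
  obtain ⟨u, hu, v, hv, rfl⟩ := AddSubgroup.mem_sup.mp (hdec x hx)
  intro b hb
  have h1 : a • v - v ∈ N := sub_mem (hs.invN a v hv) hv
  have e' : b • (a • (u + v) - (u + v)) - (a • (u + v) - (u + v)) =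
      (b • (a • u - u) - (a • u - u)) + (b • (a • v - v) - (a • v - v)) := by
    simp only [smul_add, smul_sub]; abel
  rw [e']
  exact add_mem (quad_core hA hA' hM hc hCi ⊥ hbot bot_le (le_refl _) hCsum _ _ bot_le inf_le_right hsC
    u hu a ha b hb).1 (sub_mem (hs.invN b _ h1) h1)

end Cfsg.Agent.H42.TwoNorm.Layer
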