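import Cfsg.Agent.H42.TwoNorm.Good
import Cfsg.Agent.H42.TwoNorm.Layer

/-!
The module theorem applied to an abelian layer `Z / R` inside a group.
-/

set_option autoImplicit false
set_option linter.unusedSectionVars false
set_option linter.style.haveILetI false

namespace Cfsg.Agent.H42.TwoNorm

open Subgroup
open scoped commutatorElement

variable {G : Type*} [Group G]

/-- `n` exchanges `A` and `A'` modulo `Kk`. -/
def SwapsG (A A' Kk : Subgroup G) (n : G) : Prop :=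
  ∀ x, (x ∈ A → n⁻¹ * x * n ∈ A' ⊔ Kk) ∧ (x ∈ A' → n⁻¹ * x * n ∈ A ⊔ Kk)

/-- The covering of `A` and of `A'` by paired elements. -/
structure CoverG (A A' Kk : Subgroup G) : Prop where
  left : ∀ a ∈ A, ∃ a₁ ∈ A, ∃ a₂ ∈ A, a = a₁ * a₂ ∧
    (∃ l ∈ A', SwapsG A A' Kk (a₁⁻¹ * l * a₁⁻¹)) ∧ ∃ l ∈ A', SwapsG A A' Kk (a₂⁻¹ * l * a₂⁻¹)
  right : ∀ l ∈ A', ∃ l₁ ∈ A', ∃ l₂ ∈ A', l = l₁ * l₂ ∧
    (∃ a ∈ A, SwapsG A A' Kk (a⁻¹ * l₁ * a⁻¹)) ∧ ∃ a ∈ A, SwapsG A A' Kk (a⁻¹ * l₂ * a⁻¹)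

theorem coverG_sub {A A' Kk Lam : Subgroup G} (hA : A ≤ Lam) (hA' : A' ≤ Lam) (hK : Kk ≤ Lam)
    (hgen : A ⊔ A' = Lam) (hc : CoverG A A' Kk) :
    Layer.Cover (A.subgroupOf Lam) (A'.subgroupOf Lam) (Kk.subgroupOf Lam) := by
  have hs : ∀ n : ↥Lam, SwapsG A A' Kk (n : G) →
      Layer.Swaps (A.subgroupOf Lam) (A'.subgroupOf Lam) (Kk.subgroupOf Lam) n := fun n hn =>
    ⟨fun a ha => by
      rw [← subgroupOf_sup hA' hK, mem_subgroupOf]
      exact (hn a).1 (mem_subgroupOf.mp ha),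
    fun a ha => by
      rw [← subgroupOf_sup hA hK, mem_subgroupOf]
      exact (hn a).2 (mem_subgroupOf.mp ha)⟩
  refine ⟨?_, fun a ha => ?_, fun l hl => ?_⟩
  · rw [← subgroupOf_sup hA hA', hgen, subgroupOf_self]
  · obtain ⟨a₁, h₁, a₂, h₂, e, ⟨l₁, hl₁, n₁⟩, l₂, hl₂, n₂⟩ := hc.left a (mem_subgroupOf.mp ha)
    exact ⟨⟨a₁, hA h₁⟩, mem_subgroupOf.mpr h₁, ⟨a₂, hA h₂⟩, mem_subgroupOf.mpr h₂, Subtype.ext e,
      ⟨⟨l₁, hA' hl₁⟩, mem_subgroupOf.mpr hl₁, hs _ n₁⟩, ⟨l₂, hA' hl₂⟩, mem_subgroupOf.mpr hl₂, hs _ n₂⟩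
  · obtain ⟨l₁, h₁, l₂, h₂, e, ⟨a₁, ha₁, n₁⟩, a₂, ha₂, n₂⟩ := hc.right l (mem_subgroupOf.mp hl)
    exact ⟨⟨l₁, hA' h₁⟩, mem_subgroupOf.mpr h₁, ⟨l₂, hA' h₂⟩, mem_subgroupOf.mpr h₂, Subtype.ext e,
      ⟨⟨a₁, hA ha₁⟩, mem_subgroupOf.mpr ha₁, hs _ n₁⟩, ⟨a₂, hA ha₂⟩, mem_subgroupOf.mpr ha₂, hs _ n₂⟩

set_option maxHeartbeats 1000000 in
/-- **The layer theorem** inside a group: `Z / R` abelian, the sum of the fixed points of `A` and `A'`,
with the elements of `Kk` of `p`-power order acting trivially. -/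
theorem good_layer [Finite G] {p : ℕ} [Fact p.Prime] {A A' Kk Lam Z R : Subgroup G}
    (hA : A ≤ Lam) (hA' : A' ≤ Lam) (hK : Kk ≤ Lam) (hgen : A ⊔ A' = Lam)
    (hKn : (Kk.subgroupOf Lam).Normal) (hAp : IsPGroup p A) (hA'p : IsPGroup p A')
    (hc : CoverG A A' Kk) (hZp : IsPGroup p Z) (hRZ : R ≤ Z) (hLZ : Lam ≤ normalizer (Z : Set G))
    (hLR : Lam ≤ normalizer (R : Set G)) (hab : ∀ x ∈ Z, ∀ y ∈ Z, ⁅x, y⁆ ∈ R)
    (hsum : ∀ z ∈ Z, ∃ c c', c ∈ Z ∧ c' ∈ Z ∧ z = c * c' ∧ (∀ a ∈ A, ⁅a, c⁆ ∈ R) ∧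
      ∀ a ∈ A', ⁅a, c'⁆ ∈ R)
    (hKp : ∀ k ∈ Kk, (∃ n : ℕ, k ^ p ^ n = 1) → ∀ z ∈ Z, ⁅k, z⁆ ∈ R) :
    Good Lam Kk A Z R := by
  have hZR : Z ≤ normalizer (R : Set G) := fun z hz => by
    refine mem_normalizer_iff.mpr fun r => ⟨fun hr => ?_, fun hr => ?_⟩
    · have h := mul_mem (hab z hz r (hRZ hr)) hr
      rwa [commutatorElement_def, inv_mul_cancel_right] at h
    · have hr' : r ∈ Z := by
        have := mul_mem (mul_mem (inv_mem hz) (hRZ hr)) hz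
        simpa [mul_assoc] using this
      have h := mul_mem (inv_mem (hab z hz r hr')) hr
      simpa [commutatorElement_def, mul_assoc] using h
  haveI hRn : (R.subgroupOf Z).Normal := (normal_subgroupOf_iff_le_normalizer hRZ).mpr hZR
  set Q := ↥Z ⧸ R.subgroupOf Z with hQ
  let mk : ↥Z → Q := QuotientGroup.mk
  have mkeq : ∀ x y : ↥Z, mk x = mk y ↔ (x : G)⁻¹ * y ∈ R := fun x y => by
    rw [QuotientGroup.eq, mem_subgroupOf]; rfl
  letI : CommGroup Q :=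
    { (inferInstance : Group Q) with
      mul_comm := fun u v => by
        obtain ⟨x, rfl⟩ := QuotientGroup.mk_surjective u
        obtain ⟨y, rfl⟩ := QuotientGroup.mk_surjective v
        show mk (x * y) = mk (y * x)
        rw [mkeq]
        have h := conj_mem' (mul_mem (hZR x.2) (hZR y.2)) (inv_mem (hab x x.2 y y.2))
        convert h using 1
        simp only [Subgroup.coe_mul, commutatorElement_def]
        group }
  letI act : DistribMulAction ↥Lam (Additive Q) :=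
    { smul := fun l u => Additive.ofMul (Quotient.map
        (fun z : ↥Z => (⟨(l : G) * z * (l : G)⁻¹, conj_mem (hLZ l.2) z.2⟩ : ↥Z)) (fun u v huv => by
          show QuotientGroup.leftRel _ _ _
          replace huv : QuotientGroup.leftRel _ u v := huv
          rw [QuotientGroup.leftRel_apply, mem_subgroupOf] at huv ⊢
          have h := conj_mem (hLR l.2) huv
          simp only [Subgroup.coe_mul, Subgroup.coe_inv] at h ⊢
          convert h using 1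
          group) (Additive.toMul u))
      one_smul := fun u => by
        obtain ⟨z, rfl⟩ := QuotientGroup.mk_surjective (Additive.toMul u)
        refine congrArg (fun w : ↥Z => Additive.ofMul (mk w)) (Subtype.ext ?_)
        simp
      mul_smul := fun l l' u => by
        obtain ⟨z, rfl⟩ := QuotientGroup.mk_surjective (Additive.toMul u)
        refine congrArg (fun w : ↥Z => Additive.ofMul (mk w)) (Subtype.ext ?_)
        simp [mul_assoc]
      smul_zero := fun l => by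
        refine congrArg (fun w : ↥Z => Additive.ofMul (mk w)) (Subtype.ext ?_)
        simp
      smul_add := fun l u v => by
        obtain ⟨z, rfl⟩ := QuotientGroup.mk_surjective (Additive.toMul u)
        obtain ⟨w, rfl⟩ := QuotientGroup.mk_surjective (Additive.toMul v)
        refine congrArg (fun w : ↥Z => Additive.ofMul (mk w)) (Subtype.ext ?_)
        simp [mul_assoc] }
  let π : ↥Z → Additive Q := fun z => Additive.ofMul (mk z)
  have πsurj : ∀ u : Additive Q, ∃ z : ↥Z, π z = u := fun u =>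
    QuotientGroup.mk_surjective (Additive.toMul u)
  have πmul : ∀ x y : ↥Z, π (x * y) = π x + π y := fun _ _ => rfl
  have πinv : ∀ x : ↥Z, π x⁻¹ = - π x := fun _ => rfl
  have πsmul : ∀ (l : ↥Lam) (z : ↥Z),
      l • π z = π ⟨(l : G) * z * (l : G)⁻¹, conj_mem (hLZ l.2) z.2⟩ := fun _ _ => rfl
  have πzero : ∀ x : ↥Z, π x = 0 ↔ (x : G) ∈ R := fun x => by
    rw [← mem_subgroupOf, ← QuotientGroup.eq_one_iff]
    exact Iff.rfl
  -- `l • x - x` in group language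
  have πsub : ∀ (l : ↥Lam) (z : ↥Z),
      l • π z - π z = π ⟨⁅(l : G), z⁆, mul_mem (conj_mem (hLZ l.2) z.2) (inv_mem z.2)⟩ := fun l z => by
    rw [πsmul, sub_eq_add_neg, ← πinv, ← πmul]
    rfl
  haveI : Finite Q := inferInstance
  have hM : ∀ x : Additive Q, ∃ k, p ^ k • x = 0 := fun x => by
    obtain ⟨k, hk⟩ := (hZp.to_quotient (R.subgroupOf Z)) (Additive.toMul x)
    exact ⟨k, congrArg Additive.ofMul hk⟩
  have hsum' : ∀ z : Additive Q, ∃ x y : Additive Q, z = x + y ∧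
      x ∈ Layer.Fix (A.subgroupOf Lam) ⊥ ∧ y ∈ Layer.Fix (A'.subgroupOf Lam) ⊥ := by
    intro u
    obtain ⟨z, rfl⟩ := πsurj u
    obtain ⟨c, c', hc1, hc2, e, hca, hca'⟩ := hsum z z.2
    refine ⟨π ⟨c, hc1⟩, π ⟨c', hc2⟩, ?_, fun a ha => ?_, fun a ha => ?_⟩
    · rw [← πmul]
      exact congrArg π (Subtype.ext e)
    · rw [AddSubgroup.mem_bot, πsub, πzero]
      exact hca _ (mem_subgroupOf.mp ha)
    · rw [AddSubgroup.mem_bot, πsub, πzero]
      exact hca' _ (mem_subgroupOf.mp ha)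
  have hco : ¬ p ∣ Nat.card ((Kk.subgroupOf Lam).map (MulAction.toPermHom ↥Lam (Additive Q))) := by
    intro hd
    obtain ⟨⟨σ, k, hk, rfl⟩, hσ⟩ := exists_prime_orderOf_dvd_card' p hd
    obtain ⟨a, m, hm, e⟩ := Nat.exists_eq_pow_mul_and_not_dvd (orderOf_pos (k : G)).ne' p
      (Fact.out : p.Prime).ne_one
    have hkm : ((k : G) ^ m) ^ p ^ a = 1 := by
      rw [← pow_mul, mul_comm, ← e, pow_orderOf_eq_one]
    have h1 : MulAction.toPermHom ↥Lam (Additive Q) k ^ m = 1 := by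
      rw [← map_pow]
      refine Equiv.ext fun u => ?_
      obtain ⟨z, rfl⟩ := πsurj u
      show k ^ m • π z = π z
      rw [← sub_eq_zero, πsub, πzero]
      exact hKp _ (pow_mem (mem_subgroupOf.mp hk) m) ⟨a, hkm⟩ z z.2
    have h2 : orderOf (MulAction.toPermHom ↥Lam (Additive Q) k) = p :=
      (Subgroup.orderOf_coe _).trans hσ
    exact hm (h2 ▸ orderOf_dvd_of_pow_eq_one h1)
  intro N K hRN hKZ hs x hx a ha b hb
  have hNZ : N ≤ Z := hs.le.trans hKZ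
  let img : ∀ X : Subgroup G, AddSubgroup (Additive Q) := fun X =>
    { carrier := {u | ∃ z : ↥Z, (z : G) ∈ X ∧ π z = u}
      zero_mem' := ⟨1, one_mem _, rfl⟩
      add_mem' := by
        rintro _ _ ⟨z, hz, rfl⟩ ⟨w, hw, rfl⟩
        exact ⟨z * w, mul_mem hz hw, πmul z w⟩
      neg_mem' := by
        rintro _ ⟨z, hz, rfl⟩
        exact ⟨z⁻¹, inv_mem hz, πinv z⟩ }
  have himg : ∀ (X : Subgroup G), R ≤ X → ∀ z : ↥Z, π z ∈ img X ↔ (z : G) ∈ X := fun X hX z => by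
    refine ⟨?_, fun hz => ⟨z, hz, rfl⟩⟩
    rintro ⟨w, hw, e⟩
    have := mul_mem hw (hX ((mkeq w z).mp (Additive.ofMul.injective e)))
    rwa [mul_inv_cancel_left] at this
  have hinv : ∀ X : Subgroup G, Lam ≤ normalizer (X : Set G) → Layer.Inv (L := ↥Lam) (img X) := by
    rintro X hX l _ ⟨z, hz, rfl⟩
    exact ⟨_, conj_mem (hX l.2) hz, (πsmul l z).symm⟩
  have hsL : Layer.Sec (Kk.subgroupOf Lam) (img N) (img K) := by
    refine ⟨?_, hinv N hs.invN, hinv K hs.invK, fun N' h1 h2 hi => ?_, ?_⟩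
    · rintro _ ⟨z, hz, rfl⟩
      exact ⟨z, hs.le hz, rfl⟩
    · let pre : Subgroup G :=
        { carrier := {y | ∃ hy : y ∈ Z, π ⟨y, hy⟩ ∈ N'}
          one_mem' := ⟨one_mem _, N'.zero_mem⟩
          mul_mem' := by
            rintro y y' ⟨hy, h⟩ ⟨hy', h'⟩
            exact ⟨mul_mem hy hy', N'.add_mem h h'⟩
          inv_mem' := by
            rintro y ⟨hy, h⟩
            exact ⟨inv_mem hy, N'.neg_mem h⟩ }
      have hN1 : N ≤ pre := fun y hy => ⟨hNZ hy, h1 ⟨⟨y, hNZ hy⟩, hy, rfl⟩⟩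
      have hN2 : pre ≤ K := by
        rintro y ⟨hy, h⟩
        exact (himg K (hRN.trans hs.le) ⟨y, hy⟩).mp (h2 h)
      have hpi : Lam ≤ normalizer (pre : Set G) := le_normalizer_iff.mpr fun l hl y hy => by
        obtain ⟨hy, h⟩ := hy
        exact ⟨conj_mem (hLZ hl) hy, (πsmul ⟨l, hl⟩ ⟨y, hy⟩) ▸ hi ⟨l, hl⟩ _ h⟩
      have hpn : K ≤ normalizer (pre : Set G) := le_normalizer_iff.mpr fun k hk y hy => by
        obtain ⟨hy', h⟩ := hy
        refine ⟨mul_mem (mul_mem (hKZ hk) hy') (inv_mem (hKZ hk)), ?_⟩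
        have e : (⟨k * y * k⁻¹, mul_mem (mul_mem (hKZ hk) hy') (inv_mem (hKZ hk))⟩ : ↥Z) =
            ⟨k, hKZ hk⟩ * ⟨y, hy'⟩ * (⟨k, hKZ hk⟩ : ↥Z)⁻¹ := rfl
        rw [e, πmul, πmul, πinv, add_neg_cancel_comm]
        exact h
      rcases hs.min pre hN1 hN2 hpi hpn with e | e
      · refine Or.inl (le_antisymm (fun u hu => ?_) h1)
        obtain ⟨z, rfl⟩ := πsurj u
        exact ⟨z, e.le ⟨z.2, hu⟩, rfl⟩
      · refine Or.inr (le_antisymm h2 ?_)
        rintro _ ⟨z, hz, rfl⟩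
        obtain ⟨_, h⟩ := e.ge hz
        exact h
    · rintro _ ⟨z, hz, rfl⟩ k hk
      rw [πsub]
      refine (himg N hRN _).mpr ?_
      have h := inv_mem (hs.triv z hz k (mem_subgroupOf.mp hk))
      simpa [commutatorElement_def, mul_assoc] using h
  haveI : Finite (Additive Q) := inferInstance
  have hxK : (π ⟨x, hKZ hx⟩) ∈ img K := ⟨⟨x, hKZ hx⟩, hx, rfl⟩
  have hq := Layer.quad_layer (hAp.of_equiv (subgroupOfEquivOfLe hA).symm)
    (hA'p.of_equiv (subgroupOfEquivOfLe hA').symm) hM (coverG_sub hA hA' hK hgen hc) hKn hco hsum' hsL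
    hxK (a := ⟨a, hA ha⟩) (mem_subgroupOf.mpr ha) ⟨b, hA hb⟩ (mem_subgroupOf.mpr hb)
  rw [πsub, πsub] at hq
  have hq' : ⁅b, ⁅a, x⁆⁆ ∈ N := (himg N hRN _).mp hq
  have hxa : ⁅x, a⁆ ∈ K := comm_mem (hs.invK (hA ha)) hx
  have h1 : ⁅a, x⁆ ∈ normalizer (N : Set G) := hs.normal (by
    rw [← commutatorElement_inv]; exact inv_mem hxa)
  have e : ⁅⁅x, a⁆, b⁆ = ⁅a, x⁆⁻¹ * ⁅b, ⁅a, x⁆⁆ * ⁅a, x⁆ := by
    simp only [commutatorElement_def]; group
  rw [e]
  exact conj_mem' h1 hq'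

end Cfsg.Agent.H42.TwoNorm
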