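import Cfsg.Agent.H42.TwoNorm.Image
import Cfsg.Agent.H42.TwoNorm.LayerSec
import Cfsg.Agent.H67.Focal.Quadratic
import Cfsg.Agent.H62.CD

/-!
When the largest measure `|X| · |C(X)|` inside `O_p(G) ∩ B(S)` is attained by an elementary abelian
group, the largest elementary abelian subgroups act quadratically on every chief factor below `O_p(G)`.
-/

set_option autoImplicit false
set_option linter.unusedSectionVars false
set_option linter.style.haveILetI false

namespace Cfsg.Agent.H42.TwoNorm

open Subgroup Cfsg.Agent Cfsg.Agent.H67.Focal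
open Cfsg.Agent.H31.PushUp (omegaZ Vm omegaZ_le omegaZ_comm mem_omegaZ map_omegaZ omegaZ_pow)
open scoped commutatorElement Pointwise

universe u

variable {G : Type u} [Group G] [Finite G] {p : ℕ} [Fact p.Prime] {S : Sylow p G}

/-- The exchanged subgroup. -/
abbrev exch (S : Sylow p G) (A : Subgroup G) : Subgroup G := (A ⊓ Qm S) ⊔ Vm p G

variable (h : Setup p S) (b : Blocks S)

include h b

theorem Qm_isPGroup : IsPGroup p (Qm S) :=
  (Cores.pCore_isPGroup (p := p) (G := G)).to_le inf_le_left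

theorem pElement_mem_Qm {x : G} (hxL : x ∈ Lm p G) (hxC : x ∈ Cm p G) {n : ℕ} (hn : x ^ p ^ n = 1) :
    x ∈ Qm S := by
  obtain ⟨z, hz⟩ := h.exists_zGood b
  refine hz.pCore_inf_Lm_le h ⟨?_, hxL⟩
  haveI : (Cfsg.pCore p G).Normal := normal_of_characteristic _
  have hxp : IsPGroup p (zpowers x) := IsPGroup.of_card_dvd_pow (n := n) (by
    rw [Nat.card_zpowers]; exact orderOf_dvd_of_pow_eq_one hn)
  set X := zpowers x ⊔ Cfsg.pCore p G with hX
  have hXp : IsPGroup p X := hxp.to_sup_of_normal_right (Cores.pCore_isPGroup)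
  obtain ⟨g, hg⟩ := H31.exists_conj_le_sylow S hXp
  have hXC : X ≤ Cm p G := sup_le (zpowers_le.mpr hxC) h.pCore_le_Cm
  have hle : X.map (MulAut.conj g).toMonoidHom ≤ Cfsg.pCore p G := by
    rw [← h.sylow_inf_Cm]
    refine le_inf hg ?_
    rintro _ ⟨y, hy, rfl⟩
    exact (inferInstance : (Cm p G).Normal).conj_mem y (hXC hy) g
  have hc : Nat.card X ≤ Nat.card (Cfsg.pCore p G) := by
    rw [← card_map_of_injective (K := X) (f := (MulAut.conj g).toMonoidHom) (MulAut.conj g).injective]
    exact Subgroup.card_le_of_le hle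
  rw [eq_of_le_of_card_ge (le_sup_right : Cfsg.pCore p G ≤ X) hc]
  exact mem_sup_left (mem_zpowers x)

variable {A : Subgroup G} (hA : H31.MaxIn p (S : Subgroup G) A)
  (hmeas : ∀ X : Subgroup G, X ≤ Qm S →
    Nat.card X * Nat.card (Qm S ⊓ centralizer (X : Set G) : Subgroup G) ≤ Nat.card A * Nat.card A)

include hA

theorem exch_elem : IsElementaryAbelian p (exch S A) ∧ Nat.card (exch S A) = Nat.card A ∧
    exch S A ≤ Qm S := by
  have e := maxIn_inf_Qm h b hA
  obtain ⟨hA', -⟩ := h.maxIn_exchange b hA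
  rw [exch, e]
  exact ⟨hA'.2.1, le_antisymm (hA.2.2 _ hA'.1 hA'.2.1) (hA'.2.2 _ hA.1 hA.2.1),
    e ▸ sup_le inf_le_right (Vm_le_Qm h b)⟩

theorem fixed_of_mem_exch {x : G} (hx : x ∈ exch S A) :
    ∃ s v, s ∈ A ⊓ Qm S ∧ v ∈ Vm p G ∧ x = s * v ∧ (∀ a ∈ A, a * s * a⁻¹ = s) := by
  obtain ⟨s, hs, v, hv, rfl⟩ := mem_sup_of_normal_right.mp hx
  exact ⟨s, v, hs, hv, rfl, fun a ha => by rw [H31.elem_comm hA.2.1 ha hs.1, mul_inv_cancel_right]⟩

theorem comm_exch {x a : G} (hx : x ∈ exch S A) (ha : a ∈ A) : ⁅a, x⁆ ∈ Vm p G := by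
  obtain ⟨s, v, -, hv, rfl, hfix⟩ := fixed_of_mem_exch h b hA hx
  have e : ⁅a, s * v⁆ = s * (a * v * a⁻¹ * v⁻¹) * s⁻¹ := by
    calc ⁅a, s * v⁆ = a * s * a⁻¹ * (a * v * a⁻¹ * v⁻¹) * s⁻¹ := by simp [commutatorElement_def, mul_assoc]
      _ = _ := by rw [hfix a ha]
  rw [e]
  exact Blocks.conj_mem_Vm (mul_mem (Blocks.conj_mem_Vm hv) (inv_mem hv))

include hmeas

set_option maxHeartbeats 1000000 in
theorem good_Qm {A' : Subgroup G} (ho : Opp p G A A') :
    Good (A ⊔ A') ((A ⊔ A') ⊓ Cm p G) A (Qm S) ⊥ := by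
  classical
  haveI hQn := h.Qm_normal b
  obtain ⟨hEe, hEc, hEQ⟩ := exch_elem h b hA
  obtain ⟨g, hg, hAA'⟩ := ho.conj
  set E := exch S A with hE
  set E' := E.map (MulAut.conj g).toMonoidHom with hE'def
  have hE'Q : E' ≤ Qm S := by
    rintro _ ⟨x, hx, rfl⟩
    exact hQn.conj_mem x (hEQ hx) g
  have hE'c : Nat.card E' = Nat.card A := by rw [hE'def, card_map_of_injective (MulAut.conj g).injective, hEc]
  have hE'e : IsElementaryAbelian p E' := (H31.elem_map_iff (MulAut.conj g).injective).mpr hEe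
  have hA'e : IsElementaryAbelian p A' := hAA' ▸ (H31.elem_map_iff (MulAut.conj g).injective).mpr hA.2.1
  have hfix' : ∀ x ∈ E', ∃ s v, s ∈ A' ∧ v ∈ Vm p G ∧ x = s * v ∧ (∀ a ∈ A', a * s * a⁻¹ = s) := by
    rintro _ ⟨y, hy, rfl⟩
    obtain ⟨s, v, hs, hv, rfl, -⟩ := fixed_of_mem_exch h b hA hy
    refine ⟨g * s * g⁻¹, g * v * g⁻¹, hAA' ▸ ⟨s, hs.1, rfl⟩, Blocks.conj_mem_Vm hv, by simp [mul_assoc],
      fun a ha => ?_⟩
    rw [H31.elem_comm hA'e ha (hAA' ▸ ⟨s, hs.1, rfl⟩ : g * s * g⁻¹ ∈ A'), mul_inv_cancel_right]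
  set T := E ⊔ E' with hT
  set M := E ⊓ E' with hM
  have hTQ : T ≤ Qm S := sup_le hEQ hE'Q
  have hMQ : M ≤ Qm S := inf_le_left.trans hEQ
  have hself : ∀ F : Subgroup G, F ≤ Qm S → IsElementaryAbelian p F → Nat.card F = Nat.card A →
      Qm S ⊓ centralizer (F : Set G) = F := fun F hF hFe hFc => by
    refine (eq_of_le_of_card_ge (le_inf hF fun x hx => mem_centralizer_iff.mpr fun y hy =>
      H31.elem_comm hFe hy hx) ?_).symm
    refine Nat.le_of_mul_le_mul_left ?_ (Nat.card_pos (α := F))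
    conv_rhs => rw [hFc]
    exact hmeas F hF
  have hccT : Qm S ⊓ centralizer (T : Set G) = M := by
    refine le_antisymm (le_inf ?_ ?_) ?_
    · exact le_of_le_of_eq (inf_le_inf_left _ (centralizer_le (le_sup_left : E ≤ T))) (hself E hEQ hEe hEc)
    · exact le_of_le_of_eq (inf_le_inf_left _ (centralizer_le (le_sup_right : E' ≤ T)))
        (hself E' hE'Q hE'e hE'c)
    · refine le_inf hMQ (le_centralizer_iff.mp (sup_le ?_ ?_))
      · exact fun x hx => mem_centralizer_iff.mpr fun y hy => H31.elem_comm hEe hy.1 hx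
      · exact fun x hx => mem_centralizer_iff.mpr fun y hy => H31.elem_comm hE'e hy.2 hx
  have hTle : Nat.card T * Nat.card M ≤ Nat.card A * Nat.card A := hccT ▸ hmeas T hTQ
  have hprod := H62.card_prod_mul_card_inf E E'
  rw [hEc, hE'c] at hprod
  have hset : ((T : Subgroup G) : Set G) = (E : Set G) * (E' : Set G) := by
    refine H62.sup_eq_prod_of_card_le (Nat.le_of_mul_le_mul_right ?_ (Nat.card_pos (α := M)))
    rw [hprod]
    exact hTle
  have hTM : Nat.card T * Nat.card M = Nat.card A * Nat.card A := by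
    refine le_antisymm hTle ?_
    rw [← hprod]
    exact Nat.mul_le_mul_right _ (H62.card_prod_le_sup E E')
  have hccM : Qm S ⊓ centralizer (M : Set G) = T := by
    refine (eq_of_le_of_card_ge (le_inf hTQ (le_centralizer_iff.mp (hccT ▸ inf_le_right))) ?_).symm
    refine Nat.le_of_mul_le_mul_left ?_ (Nat.card_pos (α := M))
    rw [mul_comm (Nat.card M) (Nat.card T), hTM]
    exact hmeas M hMQ
  set Lam := A ⊔ A' with hLam
  set Kk := Lam ⊓ Cm p G with hKk
  have hLamL : Lam ≤ Lm p G := sup_le ho.leA ho.leA'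
  have hVM : Vm p G ≤ M := fun v hv => ⟨mem_sup_right hv, ⟨g⁻¹ * v * g,
    mem_sup_right (by simpa using Blocks.conj_mem_Vm (g := g⁻¹) hv), by simp [mul_assoc]⟩⟩
  -- every element of `M` is fixed by `Λ` modulo `V`
  set S0 : Subgroup G := M ⊓ centralizer (Lam : Set G) with hS0
  have hMdec : ∀ m ∈ M, ∃ s ∈ S0, ∃ v ∈ Vm p G, m = s * v := by
    intro m hm
    obtain ⟨s, v, -, hv, hsv, hs⟩ := fixed_of_mem_exch h b hA hm.1
    obtain ⟨s', v', -, hv', hsv', hs'⟩ := hfix' m hm.2
    obtain ⟨x, y, hx, hy, hxy, hxA, hyA⟩ := ho.split v hv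
    obtain ⟨x', y', hx', hy', hxy', hxA', hyA'⟩ := ho.split v' hv'
    set w := y * x' with hw
    have hwV : w ∈ Vm p G := mul_mem hy hx'
    refine ⟨m * w⁻¹, ⟨mul_mem hm (hVM (inv_mem hwV)), ?_⟩, w, hwV, by rw [inv_mul_cancel_right]⟩
    have hcomm : ∀ {u u' : G}, u ∈ Vm p G → u' ∈ Vm p G → u * u' = u' * u :=
      fun hu hu' => H31.elem_comm Vm_elem hu hu'
    have e1 : m * w⁻¹ = s * (x * x'⁻¹) := by
      rw [hsv, hxy, hw]
      calc s * (x * y) * (y * x')⁻¹ = s * (x * (y * x'⁻¹ * y⁻¹)) := by group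
        _ = s * (x * (x'⁻¹ * y * y⁻¹)) := by rw [hcomm hy (inv_mem hx')]
        _ = s * (x * x'⁻¹) := by group
    have e2 : m * w⁻¹ = s' * (y' * y⁻¹) := by
      rw [hsv', hxy', hw]
      calc s' * (x' * y') * (y * x')⁻¹ = s' * (x' * (y' * x'⁻¹) * y⁻¹) := by group
        _ = s' * (x' * (x'⁻¹ * y') * y⁻¹) := by rw [hcomm hy' (inv_mem hx')]
        _ = s' * (y' * y⁻¹) := by group
    show m * w⁻¹ ∈ centralizer ((Lam : Subgroup G) : Set G)
    refine mem_centralizer_iff.mpr fun l hl => ?_
    have hle : Lam ≤ centralizer ({m * w⁻¹} : Set G) := by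
      refine sup_le (fun a ha => ?_) fun a ha => ?_
      · rw [mem_centralizer_singleton_iff, e1]
        refine mul_inv_eq_iff_eq_mul.mp ?_
        calc a * (s * (x * x'⁻¹)) * a⁻¹ = (a * s * a⁻¹) * ((a * x * a⁻¹) * (a * x' * a⁻¹)⁻¹) := by group
          _ = _ := by rw [hs a ha, hxA a ha, hxA' a ha]
      · rw [mem_centralizer_singleton_iff, e2]
        refine mul_inv_eq_iff_eq_mul.mp ?_
        calc a * (s' * (y' * y⁻¹)) * a⁻¹ = (a * s' * a⁻¹) * ((a * y' * a⁻¹) * (a * y * a⁻¹)⁻¹) := by group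
          _ = _ := by rw [hs' a ha, hyA' a ha, hyA a ha]
    exact mem_centralizer_singleton_iff.mp (hle hl)
  have hMi : Lam ≤ normalizer (M : Set G) := by
    refine le_normalizer_iff.mpr fun l hl m hm => ?_
    obtain ⟨s, hs, v, hv, rfl⟩ := hMdec m hm
    have : l * s * l⁻¹ = s := by rw [mem_centralizer_iff.mp hs.2 l hl, mul_inv_cancel_right]
    rw [show l * (s * v) * l⁻¹ = (l * s * l⁻¹) * (l * v * l⁻¹) by group, this]
    exact mul_mem hs.1 (hVM (Blocks.conj_mem_Vm hv))
  have hQi : ∀ X : Subgroup G, X ≤ normalizer ((Qm S : Subgroup G) : Set G) := fun X => by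
    rw [normalizer_eq_top_iff.mpr hQn]; exact le_top
  have hTi : Lam ≤ normalizer (T : Set G) := by
    rw [← hccM]
    refine le_normalizer_inf (hQi Lam) (le_normalizer_iff.mpr fun l hl x hx => mem_centralizer_iff.mpr fun m hm => ?_)
    have h1 := mem_centralizer_iff.mp hx _ (conj_mem' (hMi hl) hm)
    calc m * (l * x * l⁻¹) = l * ((l⁻¹ * m * l) * x) * l⁻¹ := by group
      _ = l * (x * (l⁻¹ * m * l)) * l⁻¹ := by rw [h1]
      _ = l * x * l⁻¹ * m := by group
  have hTKk : ∀ k ∈ Kk, (∃ n : ℕ, k ^ p ^ n = 1) → k ∈ T := by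
    intro k hk ⟨n, hn⟩
    rw [← hccM]
    refine ⟨pElement_mem_Qm h b (hLamL hk.1) hk.2 hn, mem_centralizer_iff.mpr fun m hm => ?_⟩
    obtain ⟨s, hs, v, hv, rfl⟩ := hMdec m hm
    have h1 : k * s = s * k := mem_centralizer_iff.mp hs.2 k hk.1
    have h2 : v * k = k * v := mem_centralizer_iff.mp hk.2 v hv
    rw [mul_assoc, h2, ← mul_assoc, ← h1, mul_assoc]
  haveI hKkn : (Kk.subgroupOf Lam).Normal := by
    rw [hKk, inf_subgroupOf_left]
    exact inferInstance
  have hcov : CoverG A A' Kk := ⟨ho.left, ho.right⟩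
  have hA' : A' ≤ Lam := le_sup_right
  have hTp : IsPGroup p T := (Qm_isPGroup h b).to_le hTQ
  -- the layers of `T / M`
  have hTgood : ∀ R : Subgroup G, M ≤ R → R ≤ T → T ≤ normalizer (R : Set G) →
      Lam ≤ normalizer (R : Set G) → Good Lam Kk A T R := by
    intro R
    induction hn : Nat.card T - Nat.card R using Nat.strong_induction_on generalizing R with
    | _ n ih =>
      intro hMR hRT hTR hLR
      rcases hRT.lt_or_eq with hlt | rfl
      swap
      · exact Good.of_quad fun x hx a ha c hc =>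
          comm_mem (hLR (mem_sup_left hc)) (comm_mem (hLR (mem_sup_left ha)) hx)
      set Z := cenTop T R with hZdef
      have hRZ : R < Z := lt_cenTop hTp hlt hTR
      have hTZ : T ≤ normalizer (Z : Set G) := le_normalizer_cenTop le_normalizer hTR
      have hLZ : Lam ≤ normalizer (Z : Set G) := le_normalizer_cenTop hTi hLR
      have hsum : ∀ z ∈ Z, ∃ c c', c ∈ Z ∧ c' ∈ Z ∧ z = c * c' ∧ (∀ a ∈ A, ⁅a, c⁆ ∈ R) ∧
          ∀ a ∈ A', ⁅a, c'⁆ ∈ R := by
        intro z hz
        obtain ⟨c, hc, c', hc', rfl⟩ := (hset.le hz.1 : z ∈ (E : Set G) * (E' : Set G))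
        have hcT : c ∈ T := mem_sup_left hc
        have hcn := hTR hcT
        have hcZ : c ∈ Z := by
          refine mem_cenTop.mpr ⟨hcT, hcn, fun y hy => ?_⟩
          let W : Subgroup G :=
            { carrier := {y | y ∈ T ∧ ⁅c, y⁆ ∈ R}
              one_mem' := ⟨one_mem _, by simp⟩
              mul_mem' := by
                rintro u v ⟨hu, hu'⟩ ⟨hv, hv'⟩
                refine ⟨mul_mem hu hv, ?_⟩
                rw [show ⁅c, u * v⁆ = ⁅c, u⁆ * (u * ⁅c, v⁆ * u⁻¹) by simp only [commutatorElement_def]; group]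
                exact mul_mem hu' (conj_mem (hTR hu) hv')
              inv_mem' := by
                rintro u ⟨hu, hu'⟩
                refine ⟨inv_mem hu, ?_⟩
                rw [show ⁅c, u⁻¹⁆ = u⁻¹ * ⁅c, u⁆⁻¹ * u by simp only [commutatorElement_def]; group]
                exact conj_mem' (hTR hu) (inv_mem hu') }
          have hEW : E ≤ W := fun d hd => ⟨mem_sup_left hd, by
            rw [commutatorElement_eq_one_iff_commute.mpr (H31.elem_comm hEe hc hd)]; exact one_mem _⟩
          have hE'W : E' ≤ W := fun d hd => by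
            refine ⟨mem_sup_right hd, ?_⟩
            have h1 := hz.2.2 d (mem_sup_right hd)
            rwa [comm_mul_left, commutatorElement_eq_one_iff_commute.mpr (H31.elem_comm hE'e hc' hd),
              mul_one, mul_inv_cancel, one_mul] at h1
          exact ((sup_le hEW hE'W : T ≤ W) hy).2
        refine ⟨c, c', hcZ, ?_, rfl, fun a ha => hMR (hVM (comm_exch h b hA hc ha)), fun a ha => ?_⟩
        · have := mul_mem (inv_mem hcZ) hz
          rwa [inv_mul_cancel_left] at this
        · obtain ⟨s, v, -, hv, rfl, hs⟩ := hfix' c' hc'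
          refine hMR (hVM ?_)
          have e : ⁅a, s * v⁆ = s * (a * v * a⁻¹ * v⁻¹) * s⁻¹ := by
            calc ⁅a, s * v⁆ = a * s * a⁻¹ * (a * v * a⁻¹ * v⁻¹) * s⁻¹ := by
                  simp [commutatorElement_def, mul_assoc]
              _ = _ := by rw [hs a ha]
          rw [e]
          exact Blocks.conj_mem_Vm (mul_mem (Blocks.conj_mem_Vm hv) (inv_mem hv))
      have hgZ : Good Lam Kk A Z R := good_layer le_sup_left hA' inf_le_left rfl hKkn
        (H31.elem_isPGroup hA.2.1) (H31.elem_isPGroup hA'e) hcov (hTp.to_le cenTop_le) hRZ.le hLZ hLR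
        (fun x hx y hy => hx.2.2 y hy.1) hsum fun k hk hkp z hz => by
          rw [← commutatorElement_inv]
          exact inv_mem (hz.2.2 k (hTKk k hk hkp))
      have hcard : Nat.card T - Nat.card Z < n := by
        have h1 : Nat.card R < Nat.card Z := Set.ncard_lt_ncard hRZ (Set.toFinite _)
        have h2 : Nat.card Z ≤ Nat.card T := Subgroup.card_le_of_le cenTop_le
        omega
      exact Good.ext le_sup_left inf_le_left cenTop_le hTZ hLZ
        (ih _ hcard Z rfl (hMR.trans hRZ.le) cenTop_le hTZ hLZ) hgZ hRZ.le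
  have hTn : T ≤ normalizer (M : Set G) := by
    have : T ≤ centralizer (M : Set G) := hccM.ge.trans inf_le_right
    exact this.trans (centralizer_le_normalizer _)
  have hgM : Good Lam Kk A M ⊥ := Good.of_quad fun m hm a ha c hc => by
    rw [mem_bot]
    obtain ⟨s, hs, v, hv, rfl⟩ := hMdec m hm
    have hsa : ⁅s, a⁆ = 1 := commutatorElement_eq_one_iff_commute.mpr
      (mem_centralizer_iff.mp hs.2 a (mem_sup_left ha)).symm
    have hvaV : ⁅v, a⁆ ∈ Vm p G := by
      have h1 := mul_mem hv (Blocks.conj_mem_Vm (g := a) (inv_mem hv))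
      simpa [commutatorElement_def, mul_assoc] using h1
    have e : ⁅s * v, a⁆ = ⁅v, a⁆ := by
      rw [comm_mul_left, hsa, mul_one, omegaZ_comm hvaV (hMQ hs.1).1]
      exact mul_inv_cancel_right _ _
    rw [e]
    exact comm_Vm_fixed h b (hA.1 ha) ((hLamL (mem_sup_left ha) : a ∈ Lm p G) |> mem_sup_left)
      (hA.1 hc) ((hLamL (mem_sup_left hc) : c ∈ Lm p G) |> mem_sup_left) hv
  have hgT : Good Lam Kk A T ⊥ := Good.ext le_sup_left inf_le_left (inf_le_left.trans le_sup_left)
    hTn hMi (hTgood M le_rfl (inf_le_left.trans le_sup_left) hTn hMi) hgM bot_le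
  -- propagation from `T = C(M)` to the whole of `Qm`
  have hprop : ∀ F : Finset G, (∀ s ∈ F, s ∈ S0) →
      Good Lam Kk A (Qm S ⊓ centralizer (F : Set G)) ⊥ → Good Lam Kk A (Qm S) ⊥ := by
    intro F
    induction F using Finset.induction_on with
    | empty =>
      intro _ hF
      refine hF.mono (le_inf le_rfl fun x _ => ?_) le_rfl
      simp [mem_centralizer_iff]
    | @insert s F hsF ihF =>
      intro hFS hF
      have hs := hFS s (Finset.mem_insert_self _ _)
      refine ihF (fun t ht => hFS t (Finset.mem_insert_of_mem ht)) ?_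
      set P := Qm S ⊓ centralizer (F : Set G) with hP
      have hsP : s ∈ P := ⟨hMQ hs.1, mem_centralizer_iff.mpr fun t ht => by
        have ht' := hFS t (Finset.mem_insert_of_mem ht)
        exact H31.elem_comm hEe ht'.1.1 hs.1.1⟩
      have hsL : ∀ l ∈ Lam, l * s * l⁻¹ = s := fun l hl => by
        rw [mem_centralizer_iff.mp hs.2 l hl, mul_inv_cancel_right]
      have hFc : Lam ≤ centralizer (F : Set G) := fun l hl => mem_centralizer_iff.mpr fun t ht =>
        (mem_centralizer_iff.mp (hFS t (Finset.mem_insert_of_mem ht)).2 l hl).symm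
      have hLP : Lam ≤ normalizer (P : Set G) := le_normalizer_inf (hQi Lam) (hFc.trans le_normalizer)
      refine good_of_centralizer (p := p) le_sup_left inf_le_left ((Qm_isPGroup h b).to_le inf_le_left)
        hsP hsL hLP ⊥ bot_le (by rw [normalizer_eq_top_iff.mpr inferInstance]; exact le_top)
        (by rw [normalizer_eq_top_iff.mpr inferInstance]; exact le_top) (hF.mono ?_ le_rfl)
      intro x hx
      obtain ⟨hxP, -, hxs⟩ := mem_cenMod.mp hx
      refine ⟨hxP.1, mem_centralizer_iff.mpr fun t ht => ?_⟩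
      rcases Finset.mem_insert.mp ht with rfl | ht'
      · exact (commutatorElement_eq_one_iff_commute.mp (mem_bot.mp hxs)).symm.eq
      · exact mem_centralizer_iff.mp hxP.2 t ht'
  refine hprop (Set.toFinite (S0 : Set G)).toFinset (fun s hs => by simpa using hs) (hgT.mono ?_ le_rfl)
  rw [← hccM]
  refine le_inf inf_le_left fun x hx => mem_centralizer_iff.mpr fun m hm => ?_
  obtain ⟨s, hs, v, hv, rfl⟩ := hMdec m hm
  have h1 : s * x = x * s := mem_centralizer_iff.mp hx.2 s (by simpa using hs)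
  have h2 : x * v = v * x := omegaZ_comm hv hx.1.1
  rw [mul_assoc, ← h2, ← mul_assoc, h1, mul_assoc]

set_option maxHeartbeats 1000000 in
/-- **The quadratic action.** -/
theorem quad_chief {U V : Subgroup G} (hch : IsChiefFactor U V) (hU : U ≤ Cfsg.pCore p G)
    (hC : ⁅U, Cm p G⁆ ≤ V) {a : G} (ha : a ∈ A) : ⁅⁅U, zpowers a⁆, zpowers a⁆ ≤ V := by
  classical
  obtain ⟨hVU, hUn, hVn, hUmin⟩ := hch
  obtain ⟨A', ho⟩ := exists_opp h b hA
  have hgood := good_Qm h b hA hmeas ho
  haveI hQn := h.Qm_normal b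
  haveI := hUn
  haveI := hVn
  obtain ⟨z, hz⟩ := h.exists_zGood b
  rcases hUmin (⁅U, Lm p G⁆ ⊔ V) inferInstance le_sup_right (sup_le (commutator_le_left U _) hVU.le) with
    hUL | hUL
  · have h1 : ⁅U, zpowers a⁆ ≤ V :=
      (commutator_mono le_rfl (zpowers_le.mpr (ho.leA ha))).trans (le_sup_left.trans hUL.le)
    exact (commutator_mono h1 le_rfl).trans (commutator_le_left V _)
  · have hUQ : U ≤ (U ⊓ Qm S) ⊔ V := by
      refine hUL.ge.trans (sup_le_sup_right (le_inf (commutator_le_left U _) ?_) V)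
      exact le_trans (le_inf ((commutator_le_left U _).trans hU) (commutator_le_right U _)) (hz.pCore_inf_Lm_le h)
    set π := QuotientGroup.mk' V with hπ
    have hπs : Function.Surjective π := QuotientGroup.mk'_surjective V
    set Lam := A ⊔ A' with hLam
    set Y := Lam ⊔ (Lm p G ⊓ Cm p G) with hY
    have hYL : Y ≤ Lm p G := sup_le (sup_le ho.leA ho.leA') inf_le_left
    have hab : ∀ x ∈ U.map π, ∀ y ∈ U.map π, x * y = y * x := by
      rintro _ ⟨x, hx, rfl⟩ _ ⟨y, hy, rfl⟩
      have h1 : ⁅x, y⁆ ∈ V := hC (commutator_mem_commutator hx (h.pCore_le_Cm (hU hy)))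
      have h2 := (QuotientGroup.eq_one_iff (N := V) _).mpr h1
      change π ⁅x, y⁆ = 1 at h2
      rwa [map_commutatorElement, commutatorElement_eq_one_iff_commute] at h2
    have hZ : zpowers (π a) ≤ Y.map π := zpowers_le.mpr ⟨a, mem_sup_left (mem_sup_left ha), rfl⟩
    have hnorm : ∀ X : Subgroup G, X.Normal → ∀ W : Subgroup (G ⧸ V), W ≤ normalizer ((X.map π : Subgroup _) : Set (G ⧸ V)) := by
      intro X hX W
      haveI := hX.map π hπs
      rw [normalizer_eq_top_iff.mpr inferInstance]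
      exact le_top
    have hquad : Quad (U.map π) (zpowers (π a)) := by
      refine quad_step (L := ⊤) (Y := (Lm p G).map π) hab (hnorm U hUn _) (hnorm _ inferInstance _)
        (hnorm U hUn _) (hZ.trans (Subgroup.map_mono hYL)) (fun N hN hNn => ?_) fun X hX hX0 hXi hXmin => ?_
      · haveI : N.Normal := normalizer_eq_top_iff.mp (top_le_iff.mp hNn)
        have hcm : N.comap π ≤ U := fun x hx => by
          obtain ⟨y, hy, hyx⟩ := hN hx
          have h1 : y⁻¹ * x ∈ V := (QuotientGroup.eq (s := V)).mp hyx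
          have h2 := mul_mem hy (hVU.le h1)
          rwa [mul_inv_cancel_left] at h2
        have hVc : V ≤ N.comap π := fun x hx => by
          rw [mem_comap, show π x = 1 from (QuotientGroup.eq_one_iff x).mpr hx]
          exact one_mem _
        rcases hUmin (N.comap π) inferInstance hVc hcm with e | e
        · left
          rw [← map_comap_eq_self_of_surjective hπs N, e, QuotientGroup.map_mk'_self]
        · right
          rw [← map_comap_eq_self_of_surjective hπs N, e]
      · refine quad_step (L := (Lm p G).map π) (Y := Y.map π) (fun x hx y hy => hab x (hX hx) y (hX hy)) hXi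
          ((Subgroup.map_mono ho.normalised).trans (le_normalizer_map _))
          ((Subgroup.map_mono hYL).trans hXi) hZ hXmin fun W hW hW0 hWi hWmin => ?_
        set K0 := W.comap π with hK0
        have hVK : V ≤ K0 := fun x hx => by
          rw [hK0, mem_comap, show π x = 1 from (QuotientGroup.eq_one_iff x).mpr hx]
          exact one_mem _
        have hKU : K0 ≤ U := fun x hx => by
          obtain ⟨y, hy, hyx⟩ := (hW.trans hX) hx
          have h1 : y⁻¹ * x ∈ V := (QuotientGroup.eq (s := V)).mp hyx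
          have h2 := mul_mem hy (hVU.le h1)
          rwa [mul_inv_cancel_left] at h2
        have hYK : Y ≤ normalizer (K0 : Set G) := le_normalizer_iff.mpr fun y hy x hx => by
          rw [hK0, mem_comap, map_mul, map_mul, map_inv]
          exact (mem_normalizer_iff.mp (hWi ⟨y, hy, rfl⟩) _).mp hx
        have hdec : ∀ x ∈ K0, ∃ k ∈ K0 ⊓ Qm S, ∃ v ∈ V, x = k * v := by
          intro x hx
          obtain ⟨k, hk, v, hv, rfl⟩ := mem_sup_of_normal_right.mp (hUQ (hKU hx))
          refine ⟨k, ⟨?_, hk.2⟩, v, hv, rfl⟩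
          have := mul_mem hx (inv_mem (hVK hv))
          rwa [mul_inv_cancel_right] at this
        have hQi : ∀ X : Subgroup G, X ≤ normalizer ((Qm S : Subgroup G) : Set G) := fun X => by
          rw [normalizer_eq_top_iff.mpr hQn]; exact le_top
        have hVi : ∀ X : Subgroup G, X ≤ normalizer (V : Set G) := fun X => by
          rw [normalizer_eq_top_iff.mpr hVn]; exact le_top
        have hsec : Sec Lam (Lam ⊓ Cm p G) (V ⊓ Qm S) (K0 ⊓ Qm S) := by
          refine ⟨inf_le_inf_right _ hVK, le_normalizer_inf (hVi _) (hQi _),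
            le_normalizer_inf (hVi _) (hQi _), le_normalizer_inf (le_sup_left.trans hYK) (hQi _),
            fun N' h1 h2 hi _ => ?_, fun x hx k hk => ?_⟩
          · have hYN : Y.map π ≤ normalizer ((N'.map π : Subgroup _) : Set (G ⧸ V)) := by
              rw [hY, Subgroup.map_sup]
              refine sup_le ((Subgroup.map_mono hi).trans (le_normalizer_map _)) ?_
              refine le_normalizer_iff.mpr ?_
              rintro _ ⟨c, hc, rfl⟩ _ ⟨x, hx, rfl⟩
              refine ⟨x, hx, ?_⟩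
              have h1 : ⁅x, c⁆ ∈ V := hC (commutator_mem_commutator (hKU (h2 hx).1) hc.2)
              have h2' := (QuotientGroup.eq_one_iff (N := V) _).mpr h1
              change π ⁅x, c⁆ = 1 at h2'
              rw [map_commutatorElement, commutatorElement_eq_one_iff_commute] at h2'
              exact (mul_inv_eq_iff_eq_mul.mpr h2'.symm.eq).symm
            rcases hWmin (N'.map π) (fun y hy => by
                obtain ⟨x, hx, rfl⟩ := hy
                exact (h2 hx).1) hYN with e | e
            · refine Or.inl (le_antisymm (le_inf (fun x hx => ?_) (h2.trans inf_le_right)) h1)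
              have h3 : π x ∈ (⊥ : Subgroup (G ⧸ V)) := e ▸ ⟨x, hx, rfl⟩
              exact (QuotientGroup.eq_one_iff x).mp (mem_bot.mp h3)
            · refine Or.inr (le_antisymm h2 fun x hx => ?_)
              obtain ⟨y, hy, hyx⟩ := e.ge (show π x ∈ W from hx.1)
              have h3 : y⁻¹ * x ∈ V ⊓ Qm S :=
                ⟨(QuotientGroup.eq (s := V)).mp hyx, Subgroup.mul_mem _ (Subgroup.inv_mem _ (h2 hy).2) hx.2⟩
              have h4 := mul_mem hy (h1 h3)
              rwa [mul_inv_cancel_left] at h4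
          · exact ⟨hC (commutator_mem_commutator (hKU hx.1) hk.2), comm_mem (hQi _ hk.1) hx.2⟩
        rw [quad_iff]
        intro w hw c hc
        obtain ⟨x, rfl⟩ := hπs w
        obtain ⟨i, rfl⟩ := mem_zpowers_iff.mp hc
        rw [← map_zpow]
        refine mem_centralizer_iff.mpr fun d hd => ?_
        obtain ⟨j, rfl⟩ := mem_zpowers_iff.mp hd
        rw [← map_zpow, ← map_commutatorElement]
        obtain ⟨k, hk, v, hv, hxv⟩ := hdec x hw
        have hkx : π x = π k := by
          rw [hxv, map_mul, show π v = 1 from (QuotientGroup.eq_one_iff v).mpr hv, mul_one]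
        rw [map_commutatorElement, hkx, ← map_commutatorElement]
        have hq := (hgood _ _ bot_le inf_le_right hsec k hk (a ^ i) (zpow_mem ha i) (a ^ j) (zpow_mem ha j)).1
        have h5 := (QuotientGroup.eq_one_iff (N := V) _).mpr hq
        change π _ = 1 at h5
        rw [map_commutatorElement, commutatorElement_eq_one_iff_commute] at h5
        exact h5.symm.eq
    have h1 : (⁅⁅U, zpowers a⁆, zpowers a⁆).map π = ⊥ := by
      rw [map_commutator, map_commutator, MonoidHom.map_zpowers]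
      exact hquad
    exact fun x hx => (QuotientGroup.eq_one_iff x).mp (mem_bot.mp (h1 ▸ ⟨x, hx, rfl⟩))

end Cfsg.Agent.H42.TwoNorm
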