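import Cfsg.Agent.H42.TwoNorm.Good

/-!
The part of a Sylow subgroup in the derived group of the normalizer of a central subgroup is the product
of its parts in the derived groups of the centralizer and of the normalizer of the Sylow subgroup.
-/

set_option autoImplicit false
set_option linter.unusedSectionVars false
set_option linter.style.haveILetI false

namespace Cfsg.Agent.H42.TwoNorm

open Subgroup
open scoped commutatorElement

theorem focal_split {G : Type*} [Group G] [Finite G] {p : ℕ} [Fact p.Prime] (T : Sylow p G)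
    {X : Subgroup G} (hTC : (T : Subgroup G) ≤ centralizer (X : Set G)) {t : G}
    (ht : t ∈ (T : Subgroup G)) (htN : t ∈ ⁅normalizer (X : Set G), normalizer (X : Set G)⁆) :
    ∃ a ∈ (T : Subgroup G) ⊓ ⁅centralizer (X : Set G), centralizer (X : Set G)⁆,
      ∃ b ∈ (T : Subgroup G) ⊓ ⁅normalizer ((T : Subgroup G) : Set G), normalizer ((T : Subgroup G) : Set G)⁆,
        t = a * b := by
  classical
  set C := centralizer (X : Set G) with hC
  set N := normalizer (X : Set G) with hN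
  set D := ⁅C, C⁆ with hD
  let φ : ↥C →* Abelianization ↥C := Abelianization.of
  have hφ : ∀ x : ↥C, φ x = 1 ↔ (x : G) ∈ D := fun x => by
    rw [hD, ← map_subtype_commutator]
    show φ x = 1 ↔ C.subtype x ∈ _
    rw [mem_map_iff_mem C.subtype_injective, ← Abelianization.ker_of]
    exact Iff.rfl
  let W : Subgroup G :=
    { carrier := {c | ∃ (hc : c ∈ C) (m : ℕ), ¬ p ∣ m ∧ φ ⟨c, hc⟩ ^ m = 1}
      one_mem' := ⟨one_mem _, 1, (Fact.out : p.Prime).not_dvd_one, by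
        rw [pow_one]; exact map_one φ⟩
      mul_mem' := by
        rintro x y ⟨hx, m, hm, e⟩ ⟨hy, n, hn, e'⟩
        refine ⟨mul_mem hx hy, m * n, fun hd => ((Fact.out : p.Prime).dvd_mul.mp hd).elim hm hn, ?_⟩
        rw [show (⟨x * y, mul_mem hx hy⟩ : ↥C) = ⟨x, hx⟩ * ⟨y, hy⟩ from rfl, map_mul, mul_pow, pow_mul, e,
          one_pow, one_mul, mul_comm m n, pow_mul, e', one_pow]
      inv_mem' := by
        rintro x ⟨hx, m, hm, e⟩
        refine ⟨inv_mem hx, m, hm, ?_⟩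
        rw [show (⟨x⁻¹, inv_mem hx⟩ : ↥C) = (⟨x, hx⟩ : ↥C)⁻¹ from rfl, map_inv, inv_pow, e, inv_one] }
  have hWmem : ∀ c, c ∈ W ↔ ∃ (hc : c ∈ C) (m : ℕ), ¬ p ∣ m ∧ φ ⟨c, hc⟩ ^ m = 1 := fun _ => Iff.rfl
  have hWC : W ≤ C := fun c hc => ((hWmem c).mp hc).choose
  have hDC : D ≤ C := commutator_le_self C
  have hDW : D ≤ W := fun d hd => (hWmem d).mpr ⟨hDC hd, 1, (Fact.out : p.Prime).not_dvd_one, by
    rw [pow_one]; exact (hφ _).mpr hd⟩
  have hNC : ∀ g ∈ N, ∀ c ∈ C, g * c * g⁻¹ ∈ C := fun g hg c hc => mem_centralizer_iff.mpr fun x hx => by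
    have h1 := mem_centralizer_iff.mp hc _ (conj_mem' hg hx)
    calc x * (g * c * g⁻¹) = g * ((g⁻¹ * x * g) * c) * g⁻¹ := by group
      _ = g * (c * (g⁻¹ * x * g)) * g⁻¹ := by rw [h1]
      _ = g * c * g⁻¹ * x := by group
  have hND : ∀ g ∈ N, ∀ d ∈ D, g * d * g⁻¹ ∈ D := by
    intro g hg d hd
    have hle : C.map (MulAut.conj g).toMonoidHom ≤ C := by
      rintro _ ⟨c, hc, rfl⟩
      exact hNC g hg c hc
    have h1 : D.map (MulAut.conj g).toMonoidHom ≤ D := by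
      rw [hD, map_commutator]
      exact commutator_mono hle hle
    exact h1 ⟨d, hd, rfl⟩
  have hWn : N ≤ normalizer (W : Set G) := le_normalizer_iff.mpr fun g hg c hc => by
    obtain ⟨hc, m, hm, e⟩ := (hWmem c).mp hc
    refine (hWmem _).mpr ⟨hNC g hg c hc, m, hm, ?_⟩
    rw [← map_pow, hφ] at e ⊢
    simp only [SubgroupClass.coe_pow] at e ⊢
    rw [conj_pow]
    exact hND g hg _ e
  -- the Sylow subgroup of `C`
  have hTN : (T : Subgroup G) ≤ N := hTC.trans (centralizer_le_normalizer _)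
  have hconjT : ∀ c : ↥C, (∃ n : ℕ, c ^ p ^ n = 1) → ∃ s ∈ (T : Subgroup G), (c : G)⁻¹ * s ∈ D := by
    intro c ⟨n, hn⟩
    have hp : IsPGroup p (zpowers c) := IsPGroup.of_card_dvd_pow (n := n) (by
      rw [Nat.card_zpowers]; exact orderOf_dvd_of_pow_eq_one hn)
    obtain ⟨R, hR⟩ := hp.exists_le_sylow
    obtain ⟨x, hx⟩ := MulAction.exists_smul_eq ↥C R (T.subtype hTC)
    have h1 : x * c * x⁻¹ ∈ ((T.subtype hTC : Sylow p ↥C) : Subgroup ↥C) := by
      rw [← hx, Sylow.coe_subgroup_smul]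
      exact ⟨c, hR (mem_zpowers c), rfl⟩
    refine ⟨_, h1, ?_⟩
    have e : φ (c⁻¹ * (x * c * x⁻¹)) = 1 := by
      rw [map_mul, map_inv, map_mul, map_mul, map_inv, mul_comm (φ x) (φ c), mul_inv_cancel_right,
        inv_mul_cancel]
    exact (hφ _).mp e
  have hCTW : ∀ c ∈ C, c ∈ W ⊔ (T : Subgroup G) := by
    intro c hc
    obtain ⟨a, m, hm, e⟩ := Nat.exists_eq_pow_mul_and_not_dvd (orderOf_pos c).ne' p
      (Fact.out : p.Prime).ne_one
    obtain ⟨s, hs, hsD⟩ := hconjT ((⟨c, hc⟩ : ↥C) ^ m) ⟨a, by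
      rw [← pow_mul, mul_comm, ← e]
      exact Subtype.ext (pow_orderOf_eq_one c)⟩
    have h1 : c ^ m ∈ W ⊔ (T : Subgroup G) := by
      have := mul_mem (mem_sup_right hs) (inv_mem (mem_sup_left (hDW hsD) : _ ∈ W ⊔ (T : Subgroup G)))
      simpa using this
    have h2 : c ^ p ^ a ∈ W ⊔ (T : Subgroup G) := mem_sup_left ((hWmem _).mpr ⟨pow_mem hc _, m, hm, by
      rw [← map_pow, show (⟨c ^ p ^ a, pow_mem hc _⟩ : ↥C) ^ m = 1 from Subtype.ext (by
        simp only [SubgroupClass.coe_pow, OneMemClass.coe_one, ← pow_mul, ← e, pow_orderOf_eq_one]),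
        map_one]⟩)
    have hco : Nat.Coprime m (p ^ a) :=
      ((Fact.out : p.Prime).coprime_iff_not_dvd.mpr hm).symm.pow_right a
    have hz : c ^ (1 : ℤ) = (c ^ m) ^ Nat.gcdA m (p ^ a) * (c ^ p ^ a) ^ Nat.gcdB m (p ^ a) := by
      rw [← zpow_natCast, ← zpow_natCast c (p ^ a), ← zpow_mul, ← zpow_mul, ← zpow_add,
        ← Nat.gcd_eq_gcd_ab, hco.gcd_eq_one]
      rfl
    rw [← zpow_one c, hz]
    exact mul_mem (zpow_mem h1 _) (zpow_mem h2 _)
  set NT := N ⊓ normalizer ((T : Subgroup G) : Set G) with hNT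
  have hTNT : (T : Subgroup G) ≤ NT := le_inf hTN le_normalizer
  have hdec : ∀ g ∈ N, ∃ n ∈ NT, g * n⁻¹ ∈ W := by
    intro g hg
    have hle : (T : Subgroup G).map (MulAut.conj g).toMonoidHom ≤ C := by
      rintro _ ⟨s, hs, rfl⟩
      exact hNC g hg s (hTC hs)
    obtain ⟨x, hx⟩ := MulAction.exists_smul_eq ↥C ((g • T).subtype (by
      rw [Sylow.coe_subgroup_smul, pointwise_smul_def]; exact hle)) (T.subtype hTC)
    have hgx : (x : G) * g ∈ normalizer ((T : Subgroup G) : Set G) := by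
      rw [mem_normalizer_iff_map_conj_eq]
      refine eq_of_le_of_card_ge ?_ (card_map_of_injective (MulAut.conj ((x : G) * g)).injective).ge
      rintro _ ⟨s, hs, rfl⟩
      have h1 : (⟨g * s * g⁻¹, hle ⟨s, hs, rfl⟩⟩ : ↥C) ∈ (((g • T).subtype (by
          rw [Sylow.coe_subgroup_smul, pointwise_smul_def]; exact hle) : Sylow p ↥C) : Subgroup ↥C) :=
        ⟨s, hs, rfl⟩
      have h2 : x * ⟨g * s * g⁻¹, hle ⟨s, hs, rfl⟩⟩ * x⁻¹ ∈ ((T.subtype hTC : Sylow p ↥C) : Subgroup ↥C) := by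
        rw [← hx, Sylow.coe_subgroup_smul]
        exact ⟨_, h1, rfl⟩
      have h3 : (x : G) * (g * s * g⁻¹) * (x : G)⁻¹ ∈ (T : Subgroup G) := h2
      simpa [mul_assoc] using h3
    have hxN : (x : G) ∈ N := centralizer_le_normalizer _ x.2
    have hn0 : (x : G) * g ∈ NT := ⟨mul_mem hxN hg, hgx⟩
    obtain ⟨w, hw, s, hs, hws⟩ := (mem_sup_iff' (Y := (T : Subgroup G)) (Z := W) (hTN.trans hWn)
      (x := (x : G)⁻¹)).mp (sup_comm W (T : Subgroup G) ▸ hCTW _ (inv_mem x.2))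
    refine ⟨w * ((x : G) * g), mul_mem (hTNT hw) hn0, ?_⟩
    have e : g * (w * ((x : G) * g))⁻¹ = (x : G)⁻¹ * w⁻¹ := by group
    rw [e, ← hws]
    exact conj_mem (hWn (hTN hw)) hs
  have hder : ⁅N, N⁆ ≤ W ⊔ ⁅NT, NT⁆ := by
    rw [commutator_le]
    intro g hg g' hg'
    obtain ⟨n, hn, hw⟩ := hdec g hg
    obtain ⟨n', hn', hw'⟩ := hdec g' hg'
    have k1 : kap W g = kap W n := (kap_eq (hWn hg) (hWn hn.1)).mpr (by
      have h' := conj_mem' (hWn hg) (inv_mem hw)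
      simpa [mul_assoc] using h')
    have k2 : kap W g' = kap W n' := (kap_eq (hWn hg') (hWn hn'.1)).mpr (by
      have h' := conj_mem' (hWn hg') (inv_mem hw')
      simpa [mul_assoc] using h')
    have hc : ∀ {u v : G}, u ∈ N → v ∈ N → kap W ⁅u, v⁆ = kap W u * kap W v * (kap W u)⁻¹ * (kap W v)⁻¹ := by
      intro u v hu hv
      have hu' := hWn hu
      have hv' := hWn hv
      rw [commutatorElement_def, kap_mul (mul_mem (mul_mem hu' hv') (inv_mem hu')) (inv_mem hv'),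
        kap_mul (mul_mem hu' hv') (inv_mem hu'), kap_mul hu' hv', kap_inv hu', kap_inv hv']
    have hgg : ⁅g, g'⁆ ∈ N := mul_mem (mul_mem (mul_mem hg hg') (inv_mem hg)) (inv_mem hg')
    have hnn : ⁅n, n'⁆ ∈ N := mul_mem (mul_mem (mul_mem hn.1 hn'.1) (inv_mem hn.1)) (inv_mem hn'.1)
    have h3 : ⁅n, n'⁆⁻¹ * ⁅g, g'⁆ ∈ W := (kap_eq (hWn hnn) (hWn hgg)).mp (by
      rw [hc hn.1 hn'.1, hc hg hg', k1, k2])
    have := mul_mem (mem_sup_right (commutator_mem_commutator hn hn') : _ ∈ W ⊔ ⁅NT, NT⁆) (mem_sup_left h3)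
    rwa [mul_inv_cancel_left] at this
  have hDn : ⁅NT, NT⁆ ≤ normalizer (W : Set G) := (commutator_le_self NT).trans (inf_le_left.trans hWn)
  obtain ⟨y, hy, w, hw, hyw⟩ := (mem_sup_iff' hDn).mp (sup_comm W ⁅NT, NT⁆ ▸ hder htN)
  -- the `p`-part of `y`
  have hyNT : y ∈ NT := commutator_le_self NT hy
  have hyC : y ∈ C := by
    have := mul_mem (hTC ht) (inv_mem (hWC hw))
    rw [← hyw, mul_inv_cancel_right] at this
    exact this
  obtain ⟨a, m, hm, e⟩ := Nat.exists_eq_pow_mul_and_not_dvd (orderOf_pos y).ne' p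
    (Fact.out : p.Prime).ne_one
  have hco : Nat.Coprime m (p ^ a) :=
    ((Fact.out : p.Prime).coprime_iff_not_dvd.mpr hm).symm.pow_right a
  set yp := (y ^ m) ^ Nat.gcdA m (p ^ a) with hyp
  set yq := (y ^ p ^ a) ^ Nat.gcdB m (p ^ a) with hyq
  have hy2 : y = yp * yq := by
    conv_lhs => rw [← zpow_one y]
    rw [hyp, hyq, ← zpow_natCast, ← zpow_natCast y (p ^ a), ← zpow_mul, ← zpow_mul, ← zpow_add,
      ← Nat.gcd_eq_gcd_ab, hco.gcd_eq_one]
    rfl
  have hymp : (y ^ m) ^ p ^ a = 1 := by rw [← pow_mul, mul_comm, ← e, pow_orderOf_eq_one]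
  have hpT : y ^ m ∈ (T : Subgroup G) := by
    have hyn : y ^ m ∈ normalizer ((T : Subgroup G) : Set G) := pow_mem hyNT.2 m
    have hp : IsPGroup p (zpowers (y ^ m)) := IsPGroup.of_card_dvd_pow (n := a) (by
      rw [Nat.card_zpowers]; exact orderOf_dvd_of_pow_eq_one hymp)
    have hXp := hp.to_sup_of_normal_right' T.isPGroup' (zpowers_le.mpr hyn)
    rw [← T.3 hXp le_sup_right]
    exact mem_sup_left (mem_zpowers _)
  have hb : yp ∈ (T : Subgroup G) ⊓ ⁅normalizer ((T : Subgroup G) : Set G), normalizer ((T : Subgroup G) : Set G)⁆ :=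
    ⟨zpow_mem hpT _, zpow_mem (pow_mem (commutator_mono inf_le_right inf_le_right hy) m) _⟩
  have hq : yq ∈ W := by
    refine zpow_mem ((hWmem _).mpr ⟨pow_mem hyC _, m, hm, ?_⟩) _
    rw [← map_pow, show (⟨y ^ p ^ a, pow_mem hyC _⟩ : ↥C) ^ m = 1 from Subtype.ext (by
      simp only [SubgroupClass.coe_pow, OneMemClass.coe_one, ← pow_mul, ← e, pow_orderOf_eq_one]), map_one]
  -- `yp⁻¹ t` is a `p`-element of `W`
  have hu : yp⁻¹ * t ∈ W := by
    rw [← hyw, hy2, show yp⁻¹ * (yp * yq * w) = yq * w by group]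
    exact mul_mem hq hw
  have huT : yp⁻¹ * t ∈ (T : Subgroup G) := mul_mem (inv_mem hb.1) ht
  have huD : yp⁻¹ * t ∈ D := by
    obtain ⟨huC, n, hn, en⟩ := (hWmem _).mp hu
    refine (hφ ⟨_, huC⟩).mp ?_
    obtain ⟨k, hk⟩ := T.isPGroup' ⟨_, huT⟩
    have e1 : φ ⟨_, huC⟩ ^ p ^ k = 1 := by
      rw [← map_pow, show (⟨yp⁻¹ * t, huC⟩ : ↥C) ^ p ^ k = 1 from Subtype.ext (by
        simpa using congrArg Subtype.val hk), map_one]
    exact orderOf_eq_one_iff.mp (Nat.eq_one_of_dvd_coprimes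
      (((Fact.out : p.Prime).coprime_iff_not_dvd.mpr hn).pow_left k)
      (orderOf_dvd_of_pow_eq_one e1) (orderOf_dvd_of_pow_eq_one en))
  refine ⟨yp * (yp⁻¹ * t) * yp⁻¹, ⟨Subgroup.mul_mem _ (Subgroup.mul_mem _ hb.1 huT) (Subgroup.inv_mem _ hb.1), hND yp (hTN hb.1) _ huD⟩,
    yp, hb, by group⟩

end Cfsg.Agent.H42.TwoNorm
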