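import Cfsg.Agent.H42.TwoNorm.Functor
import Cfsg.Agent.H42.TwoNorm.Join
import Cfsg.Agent.H42.TwoNorm.Quad
import Cfsg.Agent.H42.TwoNorm.Split
import Cfsg.Agent.H67.Focal.Main
import Cfsg.Agent.S2774

/-!
For odd `p` the centre and the functor `K` control transfer.
-/

set_option autoImplicit false
set_option linter.unusedSectionVars false
set_option linter.style.haveILetI false

namespace Cfsg.Agent.H42.TwoNorm

open Subgroup Cfsg.Agent Cfsg.Agent.H67.Focal
open Cfsg.Agent.H31.PushUp (omegaZ Vm omegaZ_le omegaZ_comm mem_omegaZ omegaZ_pow map_omegaZ)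
open scoped commutatorElement

universe u

/-- The two functors. -/
def pair (p : ℕ) : Set (∀ (Q : Type u) [Group Q], Subgroup Q) := {Zfun.{u}, Kfun.{u} p}

theorem pair_functor (p : ℕ) [Fact p.Prime] :
    ∀ W ∈ pair.{u} p, Cfsg.IsCharPFunctor.{u} p W := by
  rintro W (rfl | rfl)
  · exact Zfun_isFunctor p
  · exact Kfun_isFunctor p

variable {G : Type u} [Group G] [Finite G] {p : ℕ} [Fact p.Prime] (S : Sylow p G)

theorem Bfun_map : (Bfun p ↥(S : Subgroup G)).map (S : Subgroup G).subtype = Bm S := by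
  have hz : (omegaZ p (Cfsg.thompsonSubgroup p ↥(S : Subgroup G))).map (S : Subgroup G).subtype = Zm S := by
    rw [map_omegaZ (S : Subgroup G).subtype_injective]
    rfl
  ext x
  constructor
  · rintro ⟨y, hy, rfl⟩
    refine ⟨y.2, mem_centralizer_iff.mpr fun w hw => ?_⟩
    obtain ⟨v, hv, rfl⟩ := hz.ge hw
    exact congrArg Subtype.val (mem_centralizer_iff.mp hy v hv)
  · intro hx
    refine ⟨⟨x, hx.1⟩, mem_centralizer_iff.mpr fun v hv => Subtype.ext ?_, rfl⟩
    exact mem_centralizer_iff.mp hx.2 _ (hz.le ⟨v, hv, rfl⟩)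

theorem Kfun_map :
    (Cfsg.frattiniOfMinimalCLJoin p ↥(Bm S) = ⊥ → inducedFunctor (Kfun.{u} p) (S : Subgroup G) = Bm S) ∧
    (Cfsg.frattiniOfMinimalCLJoin p ↥(Bm S) ≠ ⊥ → inducedFunctor (Kfun.{u} p) (S : Subgroup G) =
      (Cfsg.frattiniOfMinimalCLJoin p ↥(Bm S)).map (Bm S).subtype) := by
  set B := Bfun p ↥(S : Subgroup G)
  let e : ↥B ≃* ↥(Bm S) :=
    (B.equivMapOfInjective (S : Subgroup G).subtype (S : Subgroup G).subtype_injective).trans
      (MulEquiv.subgroupCongr (Bfun_map S))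
  have he : (Bm S).subtype.comp e.toMonoidHom = (S : Subgroup G).subtype.comp B.subtype := rfl
  have hj := frattiniJoin_equiv (p := p) (S.isPGroup'.to_subgroup B) e
  refine ⟨fun h => ?_, fun h => ?_⟩
  · show (Kfun p ↥(S : Subgroup G)).map _ = _
    rw [Kfun, if_pos ((map_eq_bot_iff_of_injective _ e.injective).mp (hj.trans h)), Bfun_map]
  · show (Kfun p ↥(S : Subgroup G)).map _ = _
    rw [Kfun, if_neg (fun h' => h (by rw [← hj, h', Subgroup.map_bot])), ← hj, Subgroup.map_map,
      Subgroup.map_map, he]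

theorem Kfun_normal (hB : (Bm S).Normal) : (inducedFunctor (Kfun.{u} p) (S : Subgroup G)).Normal := by
  by_cases h : Cfsg.frattiniOfMinimalCLJoin p ↥(Bm S) = ⊥
  · rw [(Kfun_map S).1 h]
    exact hB
  · rw [(Kfun_map S).2 h]
    refine ⟨fun x hx g => ?_⟩
    have hg : (Bm S).map (MulAut.conj g).toMonoidHom = Bm S :=
      H31.map_conj_eq_of_mem_normalizer (by rw [normalizer_eq_top_iff.mpr hB]; trivial)
    let e : ↥(Bm S) ≃* ↥(Bm S) :=
      ((Bm S).equivMapOfInjective (MulAut.conj g).toMonoidHom (MulAut.conj g).injective).trans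
        (MulEquiv.subgroupCongr hg)
    have he : (Bm S).subtype.comp e.toMonoidHom = (MulAut.conj g).toMonoidHom.comp (Bm S).subtype := rfl
    have hj := frattiniJoin_equiv (p := p) (S.isPGroup'.to_le inf_le_left : IsPGroup p ↥(Bm S)) e
    have h1 : ((Cfsg.frattiniOfMinimalCLJoin p ↥(Bm S)).map (Bm S).subtype).map (MulAut.conj g).toMonoidHom =
        (Cfsg.frattiniOfMinimalCLJoin p ↥(Bm S)).map (Bm S).subtype := by
      rw [Subgroup.map_map, ← he, ← Subgroup.map_map, hj]
    exact h1.le ⟨x, hx, rfl⟩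

variable {S}

/-- A central element of order dividing `p^k` of the Sylow subgroup is central if `Ω₁(Z(S))` is. -/
theorem center_of_omega (hcent : centralizer (Cfsg.pCore p G : Set G) ≤ Cfsg.pCore p G)
    (hΩ : omegaZ p (S : Subgroup G) ≤ center G) :
    (S : Subgroup G) ⊓ centralizer ((S : Subgroup G) : Set G) ≤ center G := by
  classical
  set Q := Cfsg.pCore p G with hQ
  haveI hQn : Q.Normal := normal_of_characteristic _
  have hQS : Q ≤ (S : Subgroup G) := Cores.pCore_le_sylow S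
  intro z
  induction hn : orderOf z using Nat.strong_induction_on generalizing z with
  | _ n ih =>
    intro hz
    subst hn
    obtain ⟨hzS, hzC⟩ := hz
    obtain ⟨k, hk⟩ := S.isPGroup' ⟨z, hzS⟩
    have hk' : z ^ p ^ k = 1 := by simpa using congrArg Subtype.val hk
    rcases eq_or_ne z 1 with rfl | hz1
    · exact one_mem _
    have hzp : z ^ p ∈ center G := by
      refine ih (orderOf (z ^ p)) ?_ rfl ⟨pow_mem hzS p, pow_mem hzC p⟩
      have hd : p ∣ orderOf z := by
        obtain ⟨j, -, hj⟩ := (Nat.dvd_prime_pow Fact.out).mp (orderOf_dvd_of_pow_eq_one hk')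
        rw [hj]
        rcases j with _ | j
        · exact absurd (orderOf_eq_one_iff.mp (hj.trans (pow_zero p))) hz1
        · exact dvd_pow_self p j.succ_ne_zero
      rw [orderOf_pow_of_dvd (Fact.out : p.Prime).ne_zero hd]
      exact Nat.div_lt_self (orderOf_pos z) (Fact.out : p.Prime).one_lt
    have hzQ : z ∈ Q := hcent (centralizer_le hQS hzC)
    set ZQ : Subgroup G := Q ⊓ centralizer (Q : Set G) with hZQ
    have hzZ : z ∈ ZQ := ⟨hzQ, centralizer_le hQS hzC⟩
    haveI : (centralizer (Q : Set G)).Normal := Subgroup.normal_centralizer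
    haveI hZn : ZQ.Normal := inferInstance
    letI : CommGroup ↥ZQ :=
      { (inferInstance : Group ↥ZQ) with
        mul_comm := fun a c => Subtype.ext (mem_centralizer_iff.mp c.2.2 a a.2.1) }
    letI : Fintype (G ⧸ (S : Subgroup G)) := Fintype.ofFinite _
    let f : G ⧸ (S : Subgroup G) → ↥ZQ := fun q => ⟨q.out * z * q.out⁻¹, hZn.conj_mem z hzZ _⟩
    have hindep : ∀ x : G, ((f (x : G ⧸ (S : Subgroup G))) : G) = x * z * x⁻¹ := by
      intro x
      obtain ⟨s, hs⟩ := QuotientGroup.mk_out_eq_mul (S : Subgroup G) x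
      show ((x : G ⧸ (S : Subgroup G)).out) * z * _ = _
      rw [hs]
      calc x * s * z * (x * s)⁻¹ = x * ((s : G) * z * (s : G)⁻¹) * x⁻¹ := by group
        _ = _ := by rw [mem_centralizer_iff.mp hzC s s.2, mul_inv_cancel_right]
    set w : ↥ZQ := ∏ q, f q with hw
    let cj : G → (↥ZQ →* ↥ZQ) := fun g => ((MulAut.conjNormal g : ↥ZQ ≃* ↥ZQ)).toMonoidHom
    have hcj : ∀ g (a : ↥ZQ), ((cj g a : ↥ZQ) : G) = g * a * g⁻¹ := fun g a => MulAut.conjNormal_apply g a
    have hfix : ∀ g : G, cj g w = w := fun g => by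
      rw [hw, map_prod]
      refine Fintype.prod_equiv (MulAction.toPerm g) _ _ fun q => Subtype.ext ?_
      obtain ⟨x, rfl⟩ := QuotientGroup.mk_surjective q
      rw [hcj, hindep, show (MulAction.toPerm g) (x : G ⧸ (S : Subgroup G)) = ((g * x : G) : G ⧸ (S : Subgroup G))
        from rfl, hindep]
      group
    set N := Fintype.card (G ⧸ (S : Subgroup G)) with hN
    have hd : ∀ q, f q * (⟨z, hzZ⟩ : ↥ZQ)⁻¹ ∈ (Vm p G).subgroupOf ZQ := by
      intro q
      obtain ⟨x, rfl⟩ := QuotientGroup.mk_surjective q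
      have hmem := (mul_mem (f (x : G ⧸ (S : Subgroup G))).2 (inv_mem hzZ))
      refine mem_subgroupOf.mpr (mem_omegaZ hmem.1 (fun y hy => mem_centralizer_iff.mp hmem.2 y hy) ?_)
      rw [Subgroup.coe_mul, Subgroup.coe_inv, hindep]
      have hc : Commute (x * z * x⁻¹) z⁻¹ := by
        have h1 : x * z * x⁻¹ ∈ centralizer (Q : Set G) := (hZn.conj_mem z hzZ x).2
        exact Commute.inv_right (show Commute (x * z * x⁻¹) z from (mem_centralizer_iff.mp h1 z hzQ).symm)
      rw [hc.mul_pow, conj_pow, inv_pow, mem_center_iff.mp hzp x, mul_inv_cancel_right, mul_inv_cancel]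
    have hwz : w * ((⟨z, hzZ⟩ : ↥ZQ) ^ N)⁻¹ ∈ (Vm p G).subgroupOf ZQ := by
      rw [hw, hN, ← Finset.card_univ, ← Finset.prod_const, ← Finset.prod_inv_distrib, ← Finset.prod_mul_distrib]
      exact prod_mem fun q _ => hd q
    have hwc : ∀ g : G, g * (w : G) * g⁻¹ = w := fun g => by
      rw [← hcj, hfix g]
    have hdΩ : (w : G) * (z ^ N)⁻¹ ∈ omegaZ p (S : Subgroup G) := by
      have hV : (w : G) * (z ^ N)⁻¹ ∈ Vm p G := by simpa using mem_subgroupOf.mp hwz
      refine mem_omegaZ (hQS (omegaZ_le _ hV)) (fun x hx => ?_) (omegaZ_pow hV)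
      have h1 : Commute x (w : G) := mul_inv_eq_iff_eq_mul.mp (hwc x)
      have h2 : Commute x z := mem_centralizer_iff.mp hzC x hx
      exact (h1.mul_right (h2.pow_right N).inv_right).eq
    have hzN : z ^ N ∈ center G := by
      have h1 : (w : G) ∈ center G := mem_center_iff.mpr fun g => mul_inv_eq_iff_eq_mul.mp (hwc g)
      have h2 := mul_mem (inv_mem (hΩ hdΩ)) h1
      simpa using h2
    have hNp : ¬ p ∣ N := by
      rw [hN, ← Nat.card_eq_fintype_card]
      exact S.not_dvd_index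
    obtain ⟨m, hm⟩ := exists_pow_eq_self_of_coprime (x := z) (n := N) (by
      refine Nat.Coprime.coprime_dvd_right (orderOf_dvd_of_pow_eq_one hk') ?_
      exact ((Fact.out : p.Prime).coprime_iff_not_dvd.mpr hNp).symm.pow_right k)
    rw [← hm]
    exact pow_mem hzN m

theorem setup_of_failure (hp : p ≠ 2) (h : Fusion.MinimalFailure (pair.{u} p) S) : Setup p S := by
  have hne : (pair.{u} p).Nonempty := ⟨_, Or.inl rfl⟩
  have hS := h.ne_pCore hne
  have hSne : (S : Subgroup G) ≠ ⊥ := fun hb => h.fails (by rw [hb, inf_bot_eq]; exact bot_le)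
  set M := normalizer ((Fusion.Tj (pair.{u} p) (S : Subgroup G) ⊓ Cfsg.pCore p G : Subgroup G) : Set G)
  have hM : M ≠ ⊤ := h.M_ne_top hS
  have hover : ∀ K : Subgroup G, K ≠ ⊤ → (S : Subgroup G) ≤ K → K ≤ M := fun K hK hSK => h.le_M hS hK hSK
  have hΩ : ¬ (omegaZ p (S : Subgroup G)).Normal := fun hn => by
    haveI := hn
    set C := centralizer ((omegaZ p (S : Subgroup G) : Subgroup G) : Set G) with hC
    haveI : C.Normal := Subgroup.normal_centralizer
    have hSC : (S : Subgroup G) ≤ C := fun x hx => mem_centralizer_iff.mpr fun z hz => (omegaZ_comm hz hx).symm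
    have hC' : C = ⊤ := by
      by_contra hne'
      refine hM (eq_top_iff.mpr ?_)
      rw [← Sylow.normalizer_sup_eq_top' S hSC]
      exact sup_le (hover _ (h.normalizer_ne_top hS) le_normalizer) (hover C hne' hSC)
    have hcen : omegaZ p (S : Subgroup G) ≤ center G := fun x hx => mem_center_iff.mpr fun g =>
      (mem_centralizer_iff.mp (hC'.ge (mem_top g)) x hx).symm
    refine h.not_normal (W := Zfun.{u}) (Or.inl rfl) ⟨fun x hx g => ?_⟩
    have hx' : x ∈ center G := center_of_omega h.centralizer_le hcen (by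
      rw [← H31.center_map_subtype]
      exact hx)
    rwa [mem_center_iff.mp hx' g, mul_inv_cancel_right]
  have hB : ¬ (Bm S).Normal := fun hn => h.not_normal (W := Kfun.{u} p) (Or.inr rfl) (Kfun_normal S hn)
  have hJ : ¬ (Jm S).Normal := fun hn => by
    haveI := hn
    haveI : (Zm S).Normal := H31.PushUp.omegaZ_normal _
    set C := centralizer (Zm S : Set G) with hC
    haveI : C.Normal := Subgroup.normal_centralizer
    by_cases htop : (S : Subgroup G) ⊔ C = ⊤
    · refine hΩ ⟨fun x hx g => ?_⟩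
      have hxZ : x ∈ Zm S := by
        obtain ⟨A, hA⟩ := H31.exists_maxIn p (S : Subgroup G)
        exact mem_omegaZ (H31.le_thompsonSubgroupOf hA (H31.omegaOne_center_le_maxIn hA hx))
          (fun y hy => omegaZ_comm hx (Jm_le S hy)) (omegaZ_pow hx)
      obtain ⟨s, hs, c, hc, rfl⟩ := mem_sup_of_normal_right.mp (htop.ge (mem_top g))
      rw [show s * c * x * (s * c)⁻¹ = s * (c * x * c⁻¹) * s⁻¹ by group,
        ← mem_centralizer_iff.mp hc x hxZ, mul_inv_cancel_right, omegaZ_comm hx hs, mul_inv_cancel_right]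
      exact hx
    · refine hB (normalizer_eq_top_iff.mp ?_)
      by_contra hne'
      refine hM (eq_top_iff.mpr ?_)
      rw [← H31.normalizer_sylow_inf_sup S C]
      exact sup_le (hover _ hne' (sylow_le_normalizer_Bm S)) (le_sup_right.trans (hover _ htop le_sup_left))
  exact ⟨hp, h.centralizer_le, hS, fun e => hΩ (normalizer_eq_top_iff.mp e),
    fun e => hJ (normalizer_eq_top_iff.mp e), fun e => hB (normalizer_eq_top_iff.mp e),
    ⟨M, hM, hover⟩⟩

theorem not_minimalFailure (hp : p ≠ 2) (h : Fusion.MinimalFailure (pair.{u} p) S) : False := by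
  have hs := setup_of_failure hp h
  obtain ⟨b⟩ := exists_blocks hp S (S2774.ffShape S hs)
  by_cases hj : Cfsg.frattiniOfMinimalCLJoin p ↥(Bm S) = ⊥
  swap
  · refine h.not_normal (W := Kfun.{u} p) (Or.inr rfl) ?_
    rw [(Kfun_map S).2 hj]
    exact frattiniJoin_Bm_normal hs b
  obtain ⟨A, hA, hAQ⟩ : ∃ A, H31.MaxIn p (S : Subgroup G) A ∧ ¬ A ≤ Cfsg.pCore p G := by
    by_contra hcon
    push Not at hcon
    refine hs.Jm_not_le_pCore ?_
    rw [Jm, H31.thompsonSubgroupOf_eq]
    exact sSup_le fun A hA => hcon A hA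
  obtain ⟨a, ha, haQ⟩ := SetLike.not_le_iff_exists.mp hAQ
  obtain ⟨U, V, hch, hU, htop, hne⟩ := engel_top h hs.ne (hA.1 ha) haQ
  refine hne ?_
  have hC : ⁅U, Cm p G⁆ ≤ V := htop _ inferInstance
    (fun e => hs.sup_Cm_ne_top (by rw [e, sup_top_eq])) hs.sup_Cm_ne_top
  haveI := hch.2.1
  have h2 : 2 ≤ p - 1 := by
    have := (Fact.out : p.Prime).two_le
    omega
  exact (H49.iter_antitone U _ h2).trans
    (quad_chief hs b hA (fun X hX => meas_le_of_join_bot hs b hj hA hX) hch hU hC ha)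

theorem ctl_pair (hp : p ≠ 2) : Fusion.Ctl (pair.{u} p) p G := by
  haveI : ((⊥ : Subgroup G).subgroupOf ⊤).Normal := by rw [bot_subgroupOf]; infer_instance
  have hne : (pair.{u} p).Nonempty := ⟨_, Or.inl rfl⟩
  refine Fusion.Ctl.congr ?_ (pair_functor p) (Fusion.ctl_sections (G := G) (pair_functor p) ?_ ?_ ⊤ ⊥)
  · exact ((QuotientGroup.quotientMulEquivOfEq (bot_subgroupOf ⊤)).trans QuotientGroup.quotientBot).trans
      Subgroup.topEquiv
  · intro K R _ hKR T
    exact Fusion.ctl_of_isPGroup (pair_functor p) hne hKR T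
  · intro K R _ T hf
    exact not_minimalFailure hp hf

/-- The statement for every odd prime. -/
theorem two_normalizers {P : Type u} [Group P] [Finite P] [Nontrivial P] (hp : p ≠ 2) (hP : IsPGroup p P) :
    ∃ K : Subgroup P, K ≠ ⊥ ∧ K.Characteristic ∧ ∀ (H : Type u) [Group H] [Finite H] (τ : P →* H),
      Function.Injective τ → (∃ R : Sylow p H, (R : Subgroup H) = τ.range) → ∀ g : H,
      g ∈ τ.range ⊓ commutator H ↔ ∃ a ∈ τ.range ⊓
        ⁅centralizer ((τ.range ⊓ centralizer (τ.range : Set H) : Subgroup H) : Set H),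
          centralizer ((τ.range ⊓ centralizer (τ.range : Set H) : Subgroup H) : Set H)⁆,
        ∃ b ∈ τ.range ⊓ ⁅normalizer ((K.map τ : Subgroup H) : Set H), normalizer ((K.map τ : Subgroup H) : Set H)⁆,
          g = a * b := by
  have hW := Kfun_isFunctor.{u} p
  refine ⟨Kfun p P, hW.1 P hP inferInstance, characteristic_iff_map_eq.mpr fun φ => hW.2 P P hP φ, ?_⟩
  intro H _ _ τ hτ ⟨R, hR⟩ g
  have hKτ : inducedFunctor (Kfun.{u} p) (R : Subgroup H) = (Kfun p P).map τ := by
    rw [hR]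
    show (Kfun p ↥τ.range).map τ.range.subtype = _
    rw [← hW.2 P ↥τ.range hP (MonoidHom.ofInjective hτ), Subgroup.map_map]
    rfl
  have hZτ : inducedFunctor Zfun.{u} (R : Subgroup H) = τ.range ⊓ centralizer (τ.range : Set H) := by
    rw [hR]
    exact H31.center_map_subtype τ.range
  set X := τ.range ⊓ centralizer (τ.range : Set H) with hX
  set NK := normalizer (((Kfun p P).map τ : Subgroup H) : Set H) with hNK
  set C := centralizer (X : Set H) with hC
  have hRC : (R : Subgroup H) ≤ C := hR ▸ fun t ht => mem_centralizer_iff.mpr fun x hx =>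
    (mem_centralizer_iff.mp hx.2 t ht).symm
  have hNR : normalizer ((R : Subgroup H) : Set H) ≤ NK := by
    rw [hNK, ← hKτ]
    exact Fusion.normalizer_le_normalizer_inducedFunctor hW R.isPGroup'
  constructor
  swap
  · rintro ⟨a, ⟨ha, ha'⟩, b', ⟨hb, hb'⟩, rfl⟩
    exact ⟨mul_mem ha hb, mul_mem (commutator_mono le_top le_top ha') (commutator_mono le_top le_top hb')⟩
  rw [← hR]
  rintro ⟨hgR, hgH⟩
  -- the two parts
  set P1 := (R : Subgroup H) ⊓ ⁅C, C⁆ with hP1
  set P2 := (R : Subgroup H) ⊓ ⁅NK, NK⁆ with hP2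
  have hRn : (R : Subgroup H) ≤ normalizer (P2 : Set H) := le_normalizer_iff.mpr fun t ht x hx => by
    refine ⟨Subgroup.mul_mem _ (Subgroup.mul_mem _ ht hx.1) (Subgroup.inv_mem _ ht), ?_⟩
    have h1 : ⁅NK, NK⁆.map (MulAut.conj t).toMonoidHom ≤ ⁅NK, NK⁆ := by
      rw [map_commutator]
      refine commutator_mono ?_ ?_ <;>
      · rintro _ ⟨y, hy, rfl⟩
        exact mul_mem (mul_mem (hNR (le_normalizer ht)) hy) (inv_mem (hNR (le_normalizer ht)))
    exact h1 ⟨x, hx.2, rfl⟩
  have hTj : Fusion.Tj (pair.{u} p) (R : Subgroup H) ≤ P1 ⊔ P2 := by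
    refine iSup₂_le fun W hW' => ?_
    rcases hW' with rfl | rfl
    · rw [hZτ]
      rintro t ⟨htR, htN⟩
      obtain ⟨a, ha, b', hb, rfl⟩ := focal_split R hRC htR htN
      exact mul_mem_sup ⟨ha.1, ha.2⟩ ⟨hb.1, commutator_mono hNR hNR hb.2⟩
    · rw [hKτ]
      exact le_sup_right
  have hg := hTj (ctl_pair (G := H) hp R ⟨hgH, hgR⟩)
  obtain ⟨a, ha, b', hb, e⟩ := (mem_sup_iff' (inf_le_left.trans hRn : P1 ≤ normalizer (P2 : Set H))).mp hg
  exact ⟨a, ha, b', hb, e.symm⟩

end Cfsg.Agent.H42.TwoNorm
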